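import Groth.Agent.ProjUPLib.Exists
import Mathlib.LinearAlgebra.SymmetricAlgebra.Basis

/-! Projective space as `Proj` of the symmetric algebra of a free module. -/

set_option autoImplicit false
set_option backward.isDefEq.respectTransparency false

universe u

open CategoryTheory AlgebraicGeometry

noncomputable section

namespace Groth.Agent.ProjUPLib

variable (n : ℕ) (R : Type u) [CommRing R]

/-- The linear forms. -/
def linForm : (Fin (n + 1) → R) →ₗ[R] MvPolynomial (Fin (n + 1)) R :=
  (Pi.basisFun R (Fin (n + 1))).constr R MvPolynomial.X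

theorem isSymmetricAlgebra_linForm : IsSymmetricAlgebra (linForm n R) :=
  SymmetricAlgebra.IsSymmetricAlgebra.mvPolynomial _ _

theorem linForm_single (i : Fin (n + 1)) : linForm n R (Pi.single i 1) = MvPolynomial.X i := by
  rw [← Pi.basisFun_apply, linForm, Module.Basis.constr_basis]

theorem linForm_mem (c : Fin (n + 1) → R) : linForm n R c ∈ CohB1.polyGrading n R 1 := by
  rw [linForm, Module.Basis.constr_apply_fintype]
  exact Submodule.sum_mem _ fun i _ => Submodule.smul_mem _ _ (MvPolynomial.isHomogeneous_X R i)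

theorem linForm_eq_sum (c : Fin (n + 1) → R) :
    linForm n R c = ∑ i, c i • MvPolynomial.X i := by
  rw [linForm, Module.Basis.constr_apply_fintype]
  rfl

theorem formSec_linForm_single (i : Fin (n + 1)) :
    formSec (⟨linForm n R (Pi.single i 1), linForm_mem n R _⟩ : CohB1.polyGrading n R 1) =
      ProjUP.coord n R i := by
  have e : (⟨linForm n R (Pi.single i 1), linForm_mem n R _⟩ : CohB1.polyGrading n R 1) =
      ⟨MvPolynomial.X i, MvPolynomial.isHomogeneous_X R i⟩ := Subtype.ext (linForm_single n R i)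
  rw [formSec, e]
  rfl

variable {n R} {X : Scheme.{u}}

/-- The combination of sections with constant coefficients. -/
def combine (q : X ⟶ Spec (CommRingCat.of R)) {L : X.Modules} (s : Fin (n + 1) → ProjUP.Γm L) :
    (Fin (n + 1) → R) →+ ProjUP.Γm L :=
  AddMonoidHom.mk' (fun c => ∑ i, ProjUP.toGlobal q (c i) • s i) fun a b => by
    rw [← Finset.sum_add_distrib]
    exact Finset.sum_congr rfl fun i _ => by rw [Pi.add_apply, map_add, add_smul]

theorem combine_single (q : X ⟶ Spec (CommRingCat.of R)) {L : X.Modules} (s : Fin (n + 1) → ProjUP.Γm L)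
    (i : Fin (n + 1)) : combine q s (Pi.single i 1) = s i := by
  refine (Finset.sum_eq_single i (fun j _ hj => ?_) (fun h => absurd (Finset.mem_univ i) h)).trans ?_
  · rw [Pi.single_eq_of_ne hj, map_zero, zero_smul]
  · rw [Pi.single_eq_same, map_one, one_smul]

theorem combine_smul (q : X ⟶ Spec (CommRingCat.of R)) {L : X.Modules} (s : Fin (n + 1) → ProjUP.Γm L)
    (a : R) (c : Fin (n + 1) → R) : combine q s (a • c) = ProjUP.toGlobal q a • combine q s c := by
  show ∑ i, ProjUP.toGlobal q ((a • c) i) • s i = ProjUP.toGlobal q a • ∑ i, ProjUP.toGlobal q (c i) • s i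
  rw [Finset.smul_sum]
  exact Finset.sum_congr rfl fun i _ => by rw [Pi.smul_apply, smul_eq_mul, map_mul, mul_smul]

theorem generatedBy_combine (q : X ⟶ Spec (CommRingCat.of R)) {L : X.Modules} {s : Fin (n + 1) → ProjUP.Γm L}
    (hs : ProjUP.GeneratedBy L s) : ProjUP.GeneratedBy L (combine q s) := fun x => by
  rw [eq_top_iff, ← hs x]
  refine Submodule.span_mono ?_
  rintro _ ⟨i, rfl⟩
  exact ⟨Pi.single i 1, congrArg _ (combine_single q s i)⟩

theorem exists_hom_projSpace (q : X ⟶ Spec (CommRingCat.of R)) {L : X.Modules} (hL : PicF.IsInvertible L)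
    (s : Fin (n + 1) → ProjUP.Γm L) (hs : ProjUP.GeneratedBy L s) :
    ∃ (r : X ⟶ CohB1.ProjSpace n R) (_ : r ≫ CohB1.ProjSpace.toSpec n R = q)
      (τ : (Scheme.Modules.pullback r).obj (Twist.twistProjSpace n R 1) ≅ L),
      ∀ i, τ.hom.app ⊤ (ProjUP.pullSec r (Twist.twistProjSpace n R 1) (ProjUP.coord n R i)) = s i := by
  obtain ⟨r, hr, τ, hτ⟩ := exists_hom (linForm_mem n R) (isSymmetricAlgebra_linForm n R) q hL (combine q s)
    (combine_smul q s) (generatedBy_combine q hs)
  refine ⟨r, hr, τ, fun i => ?_⟩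
  have h := hτ (Pi.single i 1)
  rw [pForm, formSec_linForm_single, combine_single] at h
  exact h

theorem hom_ext_projSpace (r r' : X ⟶ CohB1.ProjSpace n R)
    (hb : r ≫ CohB1.ProjSpace.toSpec n R = r' ≫ CohB1.ProjSpace.toSpec n R)
    (τ : (Scheme.Modules.pullback r).obj (Twist.twistProjSpace n R 1) ≅
      (Scheme.Modules.pullback r').obj (Twist.twistProjSpace n R 1))
    (hτ : ∀ i, τ.hom.app ⊤ (ProjUP.pullSec r (Twist.twistProjSpace n R 1) (ProjUP.coord n R i)) =
      ProjUP.pullSec r' (Twist.twistProjSpace n R 1) (ProjUP.coord n R i)) : r = r' := by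
  refine hom_ext_of_iso (𝒮 := CohB1.polyGrading n R) (κ := ULift.{u} (Fin (n + 1)))
    (ι := fun i => (MvPolynomial.X i.down : MvPolynomial (Fin (n + 1)) R))
    (fun i => MvPolynomial.isHomogeneous_X R i.down) ?_ r r' hb τ fun i => hτ i.down
  rw [eq_top_iff, ← MvPolynomial.adjoin_range_X]
  exact Algebra.adjoin_mono fun _ ⟨i, hi⟩ => ⟨⟨i⟩, hi⟩

end Groth.Agent.ProjUPLib
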