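import Groth.Agent.AmpleLib.Pullback
import Groth.Agent.ParaFLib.Glue
import Groth.Prelude.Def_ProjUP

/-! Global sections of invertible modules: where they generate, and their inverse images. -/

set_option autoImplicit false
set_option backward.isDefEq.respectTransparency false
set_option linter.style.haveILetI false

universe u

open CategoryTheory CategoryTheory.Limits AlgebraicGeometry TopologicalSpace Opposite
open Groth.Agent.PullbackMod Groth.Agent.DCohLib Groth.Agent.ParaFLib Groth.Agent.AmpleLib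

noncomputable section

namespace Groth.Agent.ProjUPLib

variable {X Y : Scheme.{u}} (g : X ⟶ Y) {M : Y.Modules}

theorem pullSec_eq (σ : ProjUP.Γm M) :
    ProjUP.pullSec g M σ = pullMap g M (W := ⊤) (W' := ⊤) le_top σ :=
  (res_self' (le_top : (⊤ : X.Opens) ≤ g ⁻¹ᵁ ⊤) (ProjUP.pullSec g M σ)).symm

theorem resT_pullSec {V : X.Opens} {W : Y.Opens} (e : V ≤ g ⁻¹ᵁ W) (σ : ProjUP.Γm M) :
    resT (ProjUP.pullSec g M σ) V = pullMap g M e (resT σ W) := by
  rw [pullSec_eq, resT]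
  exact pullMap_res g M le_top le_top le_top e σ

theorem gen_pullMap (hM : PicF.IsInvertible M) {W : Y.Opens} {m : Γ(M, W)} (hm : Gen W m)
    {V : X.Opens} (e : V ≤ g ⁻¹ᵁ W) : Gen V (pullMap g M e m) := by
  haveI := Groth.Agent.InvExt.isQCoh_of_isInvertible hM
  refine gen_of_germ fun y hy => ?_
  rw [← pullStalk_germ' g M y (show g y ∈ W from e hy) hy e]
  exact bijective_pullStalk g y (hm.bijective_germ _ _)

/-- The open on which a global section generates. -/
def gl {L : X.Modules} (σ : ProjUP.Γm L) : X.Opens := CohB1.genLocus L (DCohLib.secHom L σ)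

variable {L : X.Modules}

theorem gl_inf_eq (σ : ProjUP.Γm L) {W : X.Opens} {e : Γ(L, W)} (he : Gen W e) {a : Γ(X, W)}
    (ha : a • e = resT σ W) : gl σ ⊓ W = X.basicOpen a :=
  genLocus_inf_eq_basicOpen _ he (by rw [sec_secHom]; exact ha)

theorem mem_gl_iff (hL : PicF.IsInvertible L) {σ : ProjUP.Γm L} {x : X} :
    x ∈ gl σ ↔ Function.Bijective fun r : X.presheaf.stalk x => r • L.presheaf.germ ⊤ x trivial σ := by
  rw [gl, mem_genLocus_iff hL, sec_secHom]

theorem le_gl {σ : ProjUP.Γm L} {U : X.Opens} (h : Gen U (resT σ U)) : U ≤ gl σ := fun x hx =>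
  mem_genLocus_iff'.2 ⟨U, hx, by rw [sec_secHom]; exact h⟩

theorem gen_gl (hL : PicF.IsInvertible L) (σ : ProjUP.Γm L) : Gen (gl σ) (resT σ (gl σ)) :=
  gen_of_germ fun y hy => by
    rw [resT, TopCat.Presheaf.germ_res_apply]
    exact (mem_gl_iff hL).1 hy

theorem gl_iso {L' : X.Modules} (τ : L ≅ L') (σ : ProjUP.Γm L) : gl (τ.hom.app ⊤ σ) = gl σ := by
  have h : DCohLib.secHom L' (τ.hom.app ⊤ σ) = DCohLib.secHom L σ ≫ τ.hom := by
    refine DCohLib.hom_unit_ext ((sec_secHom (L := L') _).trans ?_)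
    exact (congrArg (τ.hom.app ⊤) (sec_secHom (L := L) σ)).symm
  rw [gl, h]
  exact genLocus_comp_iso _ τ

theorem gl_pullSec (hM : PicF.IsInvertible M) (σ : ProjUP.Γm M) :
    gl (ProjUP.pullSec g M σ) = g ⁻¹ᵁ gl σ := by
  ext x
  obtain ⟨W, e, hxW, he⟩ := exists_gen_nhd hM (g x)
  obtain ⟨a, ha⟩ := (he W le_rfl).2 (resT σ W)
  change a • _ = _ at ha
  rw [res_self'] at ha
  have h1 : gl σ ⊓ W = Y.basicOpen a := gl_inf_eq σ he ha
  have h2 : gl (ProjUP.pullSec g M σ) ⊓ g ⁻¹ᵁ W = X.basicOpen (g.appLE W (g ⁻¹ᵁ W) le_rfl a) :=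
    gl_inf_eq _ (gen_pullMap g hM he le_rfl)
      (by rw [resT_pullSec g (le_refl (g ⁻¹ᵁ W)) σ, ← ha, pullMap_smul])
  rw [Scheme.basicOpen_appLE, ← h1] at h2
  have hx : x ∈ gl (ProjUP.pullSec g M σ) ⊓ g ⁻¹ᵁ W ↔ x ∈ g ⁻¹ᵁ W ⊓ g ⁻¹ᵁ (gl σ ⊓ W) := by rw [h2]
  exact ⟨fun h => (hx.1 ⟨h, hxW⟩).2.1, fun h => (hx.2 ⟨hxW, h, hxW⟩).1⟩

theorem exists_mem_gl (hL : PicF.IsInvertible L) {ι : Type*} {s : ι → ProjUP.Γm L}
    (hs : ProjUP.GeneratedBy L s) (x : X) : ∃ i, x ∈ gl (s i) := by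
  obtain ⟨W, e, hxW, he⟩ := exists_gen_nhd hL x
  have hb := he.bijective_germ x hxW
  by_contra hne
  push Not at hne
  let E := LinearMap.toSpanSingleton (X.presheaf.stalk x) _ (L.presheaf.germ W x hxW e)
  have hle : Submodule.span (X.presheaf.stalk x) (Set.range fun i => (L.presheaf.germ ⊤ x trivial).hom (s i)) ≤
      Submodule.map E (IsLocalRing.maximalIdeal (X.presheaf.stalk x)) := by
    rw [Submodule.span_le]
    rintro _ ⟨i, rfl⟩
    obtain ⟨a, ha⟩ := hb.2 (L.presheaf.germ ⊤ x trivial (s i))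
    refine ⟨a, fun hu => hne i ((mem_gl_iff hL).2 ?_), ha⟩
    change a • L.presheaf.germ W x hxW e = _ at ha
    rw [← ha]
    exact (bijective_smul_iff hb a).2 hu
  rw [hs x] at hle
  obtain ⟨a, ha, hae⟩ := hle (Submodule.mem_top (x := L.presheaf.germ W x hxW e))
  have : a = 1 := hb.1 (hae.trans (one_smul _ _).symm)
  exact ha (this ▸ isUnit_one)

theorem iSup_gl (hL : PicF.IsInvertible L) {ι : Type*} {s : ι → ProjUP.Γm L}
    (hs : ProjUP.GeneratedBy L s) : ⨆ i, gl (s i) = ⊤ :=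
  eq_top_iff.2 fun x _ => Opens.mem_iSup.2 (exists_mem_gl hL hs x)

/-- Modules with local bases and the same transition functions are isomorphic, compatibly. -/
theorem exists_iso_of_bases {L' : X.Modules} {ι : Type u} {U : ι → X.Opens} {s : ∀ i, Γ(L, U i)}
    {t : ∀ i, Γ(L', U i)} (hU : iSup U = ⊤) (hs : ∀ i, Gen (U i) (s i)) (hgt : ∀ i, Gen (U i) (t i))
    (η : ∀ i j, Γ(X, U i ⊓ U j))
    (hη : ∀ i j, L.presheaf.map (homOfLE (inf_le_left : U i ⊓ U j ≤ U i)).op (s i) =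
      η i j • L.presheaf.map (homOfLE (inf_le_right : U i ⊓ U j ≤ U j)).op (s j))
    (ht : ∀ i j, L'.presheaf.map (homOfLE (inf_le_left : U i ⊓ U j ≤ U i)).op (t i) =
      η i j • L'.presheaf.map (homOfLE (inf_le_right : U i ⊓ U j ≤ U j)).op (t j)) :
    ∃ e : L ≅ L', ∀ i, e.hom.app (U i) (s i) = t i := by
  obtain ⟨φ, hφ⟩ := exists_hom_of_bases hU hs η hη ht
  have : IsIso φ := isIso_of_locally_app φ fun x => by
    obtain ⟨i, hi⟩ := Opens.mem_iSup.1 (hU.ge (Opens.mem_top x))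
    refine ⟨U i, hi, fun O hO => ?_⟩
    refine (Function.Bijective.of_comp_iff (φ.app O) (hs i O hO)).1 ?_
    have : (φ.app O : Γ(L, O) → Γ(L', O)) ∘ (fun r : Γ(X, O) => r • L.presheaf.map (homOfLE hO).op (s i))
        = fun r : Γ(X, O) => r • L'.presheaf.map (homOfLE hO).op (t i) := funext fun r => by
      show φ.app O (r • _) = _
      refine (Scheme.Modules.Hom.app_smul φ r (L.presheaf.map (homOfLE hO).op (s i))).trans ?_
      refine congrArg (fun v : Γ(L', O) => r • v) ?_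
      exact (DCohLib.app_natural φ hO (s i)).trans (congrArg _ (hφ i))
    rw [this]
    exact hgt i O hO
  exact ⟨asIso φ, hφ⟩

end Groth.Agent.ProjUPLib
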