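import Groth.Agent.ProjUPLib.Unique

/-! Existence of the morphism to `Proj` of a symmetric algebra given by generating sections. -/

set_option autoImplicit false
set_option backward.isDefEq.respectTransparency false
set_option linter.style.haveILetI false

universe u

open CategoryTheory CategoryTheory.Limits AlgebraicGeometry TopologicalSpace Opposite
open Groth.Agent.PullbackMod Groth.Agent.DCohLib Groth.Agent.ParaFLib Groth.Agent.AmpleLib

noncomputable section

namespace Groth.Agent.ProjUPLib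

variable {X : Scheme.{u}} {L : X.Modules}

theorem exists_coef (hL : PicF.IsInvertible L) (σ τ : ProjUP.Γm L) :
    ∃ c : Γ(X, gl σ), c • resT σ (gl σ) = resT τ (gl σ) := by
  obtain ⟨c, hc⟩ := (gen_gl hL σ (gl σ) le_rfl).2 (resT τ (gl σ))
  change c • _ = _ at hc
  rw [res_self'] at hc
  exact ⟨c, hc⟩

/-- The ratio `τ / σ` on the open where `σ` generates. -/
def coef (hL : PicF.IsInvertible L) (σ τ : ProjUP.Γm L) : Γ(X, gl σ) := (exists_coef hL σ τ).choose

theorem coef_smul (hL : PicF.IsInvertible L) (σ τ : ProjUP.Γm L) :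
    coef hL σ τ • resT σ (gl σ) = resT τ (gl σ) := (exists_coef hL σ τ).choose_spec

theorem eq_coef (hL : PicF.IsInvertible L) {σ τ : ProjUP.Γm L} {c : Γ(X, gl σ)}
    (h : c • resT σ (gl σ) = resT τ (gl σ)) : c = coef hL σ τ := by
  have hh := h.trans (coef_smul hL σ τ).symm
  apply (gen_gl hL σ (gl σ) le_rfl).1
  show _ • _ = _ • _
  rw [res_self', hh]

theorem coef_self (hL : PicF.IsInvertible L) (σ : ProjUP.Γm L) : coef hL σ σ = 1 :=
  (eq_coef hL (one_smul _ _)).symm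

theorem coef_add (hL : PicF.IsInvertible L) (σ τ τ' : ProjUP.Γm L) :
    coef hL σ (τ + τ') = coef hL σ τ + coef hL σ τ' := by
  refine (eq_coef hL ?_).symm
  rw [add_smul, coef_smul, coef_smul]
  exact (map_add (L.presheaf.map (homOfLE (le_top : gl σ ≤ ⊤)).op).hom τ τ').symm

theorem coef_mul_smul (hL : PicF.IsInvertible L) (σ τ : ProjUP.Γm L) (c : Γ(X, ⊤)) :
    coef hL σ (c • τ) = X.presheaf.map (homOfLE (le_top : gl σ ≤ ⊤)).op c * coef hL σ τ := by
  refine (eq_coef hL ?_).symm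
  rw [mul_smul, coef_smul]
  exact (L.map_smul (homOfLE (le_top : gl σ ≤ ⊤)) c τ).symm

theorem res_coef_smul (hL : PicF.IsInvertible L) (σ τ : ProjUP.Γm L) {W : X.Opens} (h : W ≤ gl σ) :
    X.presheaf.map (homOfLE h).op (coef hL σ τ) • resT σ W = resT τ W := by
  have := congrArg (L.presheaf.map (homOfLE h).op) (coef_smul hL σ τ)
  simp only [L.map_smul, resT, res_res] at this
  exact this

theorem res_coef_mul (hL : PicF.IsInvertible L) (σ σ' τ : ProjUP.Γm L) {W : X.Opens} (h : W ≤ gl σ)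
    (h' : W ≤ gl σ') :
    X.presheaf.map (homOfLE h).op (coef hL σ σ') * X.presheaf.map (homOfLE h').op (coef hL σ' τ) =
      X.presheaf.map (homOfLE h).op (coef hL σ τ) := by
  apply ((gen_gl hL σ).res h W le_rfl).1
  show _ • _ = _ • _
  rw [res_self']
  simp only [resT, res_res]
  rw [mul_comm, mul_smul, res_coef_smul, res_coef_smul, res_coef_smul]

theorem basicOpen_coef (hL : PicF.IsInvertible L) (σ τ : ProjUP.Γm L) :
    X.basicOpen (coef hL σ τ) = gl τ ⊓ gl σ :=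
  (gl_inf_eq τ (gen_gl hL σ) (coef_smul hL σ τ)).symm

theorem appLE_top_top {Y Z : Scheme.{u}} (f : Y ⟶ Z) : f.appLE ⊤ ⊤ le_top = f.appTop :=
  (Scheme.Hom.app_eq_appLE f).symm

/-- A section over `U` as a function on `U`. -/
abbrev toSub (U : X.Opens) : Γ(X, U) ⟶ Γ(U.toScheme, ⊤) := U.ι.appLE U ⊤ (by simp)

theorem homOfLE_appTop_toSub {W U : X.Opens} (h : W ≤ U) (c : Γ(X, U)) :
    (X.homOfLE h).appTop (toSub U c) = toSub W (X.presheaf.map (homOfLE h).op c) := by
  have e1 : toSub U ≫ (X.homOfLE h).appLE ⊤ ⊤ le_top = (X.homOfLE h ≫ U.ι).appLE U ⊤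
      (by rw [Scheme.homOfLE_ι]; exact fun x _ => h x.2) := Scheme.Hom.appLE_comp_appLE ..
  have e2 : X.presheaf.map (homOfLE h).op ≫ toSub W = W.ι.appLE U ⊤ (fun x _ => h x.2) := Scheme.Hom.map_appLE ..
  simp only [Scheme.homOfLE_ι] at e1
  rw [← CommRingCat.comp_apply (X.presheaf.map (homOfLE h).op), e2, ← e1, CommRingCat.comp_apply, appLE_top_top]

theorem eq_toSpecΓ_toGlobal {W : Scheme.{u}} {A : Type u} [CommRing A] (f : W ⟶ Spec (CommRingCat.of A)) :
    f = W.toSpecΓ ≫ Spec.map (CommRingCat.ofHom (ProjUP.toGlobal f)) := by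
  rw [show CommRingCat.ofHom (ProjUP.toGlobal f) = (Scheme.ΓSpecIso (CommRingCat.of A)).inv ≫ f.appTop from rfl,
    Spec.map_comp, ← Scheme.toSpecΓ_naturality_assoc, toSpecΓ_SpecMap_ΓSpecIso_inv, Category.comp_id]

variable {A S : Type u} [CommRing A] [CommRing S] [Algebra A S] {𝒮 : ℕ → Submodule A S} [GradedAlgebra 𝒮]
variable {M : Type u} [AddCommGroup M] [Module A M] {ι : M →ₗ[A] S} (hι : ∀ m : M, ι m ∈ 𝒮 1)

theorem ratioAt_congr {W : Scheme.{u}} {f f' : W ⟶ Proj 𝒮} (e : f = f') (g a : 𝒮 1) (h) :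
    ratioAt f g h a = ratioAt f' g (e ▸ h) a := by subst e; rfl

theorem exists_hom (hsym : IsSymmetricAlgebra ι) (q : X ⟶ Spec (CommRingCat.of A)) (hL : PicF.IsInvertible L)
    (v : M →+ ProjUP.Γm L) (hv : ∀ (a : A) (m : M), v (a • m) = ProjUP.toGlobal q a • v m)
    (hgen : ProjUP.GeneratedBy L v) :
    ∃ (r : X ⟶ Proj 𝒮) (_ : r ≫ toBase 𝒮 = q)
      (τ : (Scheme.Modules.pullback r).obj (Twist.twist 𝒮 1) ≅ L),
      ∀ m : M, τ.hom.app ⊤ (pForm r ⟨ι m, hι m⟩) = v m := by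
  have hadj := adjoin_range hsym
  let g : M → 𝒮 1 := fun m => ⟨ι m, hι m⟩
  let U : M → X.Opens := fun m => gl (v m)
  have hcov : ⨆ m, U m = ⊤ := iSup_gl hL hgen
  -- the chart maps
  have hev : ∀ n : M, ∃ ev : S →+* Γ((U n).toScheme, ⊤), (∀ m, ev (ι m) = toSub (U n) (coef hL (v n) (v m))) ∧
      ∀ a, ev (algebraMap A S a) = ProjUP.toGlobal ((U n).ι ≫ q) a := fun n => by
    letI : Algebra A Γ((U n).toScheme, ⊤) := (ProjUP.toGlobal ((U n).ι ≫ q)).toAlgebra
    have hc : ∀ a, toSub (U n) (X.presheaf.map (homOfLE (le_top : U n ≤ ⊤)).op (ProjUP.toGlobal q a)) =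
        ProjUP.toGlobal ((U n).ι ≫ q) a := fun a => by
      rw [← CommRingCat.comp_apply, Scheme.Hom.map_appLE, appLE_top_top]
      simp [ProjUP.toGlobal]
    let t : M →ₗ[A] Γ((U n).toScheme, ⊤) :=
      { toFun := fun m => toSub (U n) (coef hL (v n) (v m))
        map_add' := fun m m' => by rw [map_add v, coef_add, map_add]
        map_smul' := fun a m => by
          rw [hv, coef_mul_smul, map_mul, hc]
          rfl }
    exact ⟨(hsym.lift t).toRingHom, fun m => hsym.lift_eq t m, fun a => (hsym.lift t).commutes a⟩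
  choose ev hevι hevA using hev
  have hev1 : ∀ n, ev n (g n).1 = 1 := fun n => (hevι n n).trans (by rw [coef_self, map_one])
  let p : ∀ n, (U n).toScheme ⟶ Proj 𝒮 := fun n => (U n).toScheme.toSpecΓ ≫
    Spec.map (CommRingCat.ofHom (evalChart (g n) (ev n) (hev1 n))) ≫ Proj.awayι 𝒮 (g n).1 (g n).2 one_pos
  have hp : ∀ n, ⊤ ≤ p n ⁻¹ᵁ Proj.basicOpen 𝒮 (g n).1 := fun n => top_le_preimage_awayι (g n)
  have hpr : ∀ n m, ratioAt (p n) (g n) (hp n) (g m) = toSub (U n) (coef hL (v n) (v m)) := fun n m => by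
    rw [ratioAt, chartMap_mk]
    exact (evalChart_mk (g n) (ev n) (hev1 n) 1 _ _).trans (hevι n m)
  have hpq : ∀ n, p n ≫ toBase 𝒮 = (U n).ι ≫ q := fun n => by
    rw [eq_toSpecΓ_toGlobal ((U n).ι ≫ q), comp_toBase (p n) (g n) (hp n), chartMap_mk]
    congr 2
    refine CommRingCat.hom_ext (RingHom.ext fun a => ?_)
    show evalChart (g n) (ev n) (hev1 n) (constAway 𝒮 (g n).1 a) = _
    rw [← dehom_algebraMap, evalChart_dehom]
    exact hevA n a
  -- compatibility
  have hcomp : ∀ n k, X.homOfLE (inf_le_left : U n ⊓ U k ≤ U n) ≫ p n =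
      X.homOfLE (inf_le_right : U n ⊓ U k ≤ U k) ≫ p k := fun n k => by
    set W := U n ⊓ U k
    let k1 := X.homOfLE (inf_le_left : W ≤ U n)
    let k2 := X.homOfLE (inf_le_right : W ≤ U k)
    have h1 : ⊤ ≤ (k1 ≫ p n) ⁻¹ᵁ Proj.basicOpen 𝒮 (g n).1 := fun x _ => hp n (Opens.mem_top (k1 x))
    have h2 : ⊤ ≤ (k2 ≫ p k) ⁻¹ᵁ Proj.basicOpen 𝒮 (g k).1 := fun x _ => hp k (Opens.mem_top (k2 x))
    have e2 : ∀ m, ratioAt (k2 ≫ p k) (g k) h2 (g m) =
        toSub W (X.presheaf.map (homOfLE (inf_le_right : W ≤ U k)).op (coef hL (v k) (v m))) := fun m => by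
      rw [ratioAt_comp (p k) (g k) (hp k), hpr, homOfLE_appTop_toSub]
    have h2n : ⊤ ≤ (k2 ≫ p k) ⁻¹ᵁ Proj.basicOpen 𝒮 (g n).1 := by
      rw [preimage_basicOpen_ratio (k2 ≫ p k) (g k) h2, e2, Scheme.basicOpen_appLE, Scheme.basicOpen_res,
        basicOpen_coef]
      intro x _
      exact ⟨trivial, x.2, x.2.1, x.2.2⟩
    refine hom_ext_chart hι _ (g n) h1 hadj _ h2n
      (by rw [Category.assoc k1 (p n), Category.assoc k2 (p k), hpq, hpq, ← Category.assoc, ← Category.assoc,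
        Scheme.homOfLE_ι, Scheme.homOfLE_ι]) fun m => ?_
    rw [ratioAt_comp (p n) (g n) (hp n), hpr, homOfLE_appTop_toSub]
    have hu : IsUnit (toSub W (X.presheaf.map (homOfLE (inf_le_right : W ≤ U k)).op (coef hL (v k) (v n)))) := by
      refine IsUnit.of_mul_eq_one
        (toSub W (X.presheaf.map (homOfLE (inf_le_left : W ≤ U n)).op (coef hL (v n) (v k)))) ?_
      rw [← map_mul, res_coef_mul, coef_self, map_one, map_one]
    refine hu.mul_left_cancel ?_
    rw [← map_mul, res_coef_mul, ← e2, ← e2]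
    exact (ratioAt_mul (k2 ≫ p k) (g k) h2 (g n) (g m) h2n).symm
  let r : X ⟶ Proj 𝒮 := (X.openCoverOfIsOpenCover U hcov).glueMorphisms p fun i j => by
    have hle : ∀ w, (pullback.fst (U i).ι (U j).ι ≫ (U i).ι) w ∈ U i ⊓ U j := fun w => by
      refine ⟨(pullback.fst (U i).ι (U j).ι w).2, ?_⟩
      rw [pullback.condition]
      exact (pullback.snd (U i).ι (U j).ι w).2
    let k := IsOpenImmersion.lift (U i ⊓ U j).ι (pullback.fst (U i).ι (U j).ι ≫ (U i).ι)
      (by rintro _ ⟨w, rfl⟩; rw [Scheme.Opens.range_ι]; exact hle w)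
    have hk1 : k ≫ X.homOfLE (inf_le_left : U i ⊓ U j ≤ U i) = pullback.fst (U i).ι (U j).ι := by
      rw [← cancel_mono (U i).ι, Category.assoc, Scheme.homOfLE_ι, IsOpenImmersion.lift_fac]
    have hk2 : k ≫ X.homOfLE (inf_le_right : U i ⊓ U j ≤ U j) = pullback.snd (U i).ι (U j).ι := by
      rw [← cancel_mono (U j).ι, Category.assoc, Scheme.homOfLE_ι, IsOpenImmersion.lift_fac, pullback.condition]
    show pullback.fst (U i).ι (U j).ι ≫ p i = pullback.snd (U i).ι (U j).ι ≫ p j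
    rw [← hk1, ← hk2, Category.assoc, Category.assoc, hcomp]
  have hιr : ∀ n, (U n).ι ≫ r = p n := fun n =>
    Scheme.Cover.ι_glueMorphisms (X.openCoverOfIsOpenCover U hcov) _ _ n
  have hle : ∀ n, U n ≤ r ⁻¹ᵁ Proj.basicOpen 𝒮 (g n).1 := fun n x hx => by
    show r ((U n).ι ⟨x, hx⟩) ∈ Proj.basicOpen 𝒮 (g n).1
    rw [← Scheme.Hom.comp_apply, hιr]
    exact hp n (Opens.mem_top _)
  have hrat : ∀ n m, r.appLE _ (U n) (hle n) (ProjCoh.ratioSec 𝒮 (g n) (g m)) = coef hL (v n) (v m) := fun n m => by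
    apply ι_appLE_injective (U n)
    rw [← ratioAt_ι r (g n) (g m) (hle n) (top_le_ι_preimage r (hle n)), ratioAt_congr (hιr n)]
    exact hpr n m
  have hpre : ∀ n, r ⁻¹ᵁ Proj.basicOpen 𝒮 (g n).1 = U n := fun n => le_antisymm (fun x hx => by
    obtain ⟨k, hk⟩ := Opens.mem_iSup.1 (hcov.ge (Opens.mem_top x))
    have h := congrArg X.basicOpen (hrat k n)
    rw [Scheme.basicOpen_appLE, ProjCoh.basicOpen_ratioSec, basicOpen_coef] at h
    exact (h.le ⟨hk, hle k hk, hx⟩).1) (hle n)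
  refine ⟨r, (X.openCoverOfIsOpenCover U hcov).hom_ext _ _ fun n => ?_, ?_⟩
  · show (U n).ι ≫ r ≫ toBase 𝒮 = (U n).ι ≫ q
    rw [← Category.assoc, hιr, hpq]
  have hP : ∀ n m, coef hL (v n) (v m) • resT (pForm r (g n)) (U n) = resT (pForm r (g m)) (U n) := fun n m => by
    rw [← hrat n m]
    exact appLE_ratio_smul r (g n) (g m) (hle n)
  obtain ⟨τ, hτ⟩ := exists_iso_of_bases (L := (Scheme.Modules.pullback r).obj (Twist.twist 𝒮 1)) (L' := L)
    (U := U) (s := fun n => resT (pForm r (g n)) (U n)) (t := fun n => resT (v n) (U n)) hcov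
    (fun n => gen_pForm hι r hadj (g n) (hle n)) (fun n => gen_gl hL (v n))
    (fun i j => X.presheaf.map (homOfLE (inf_le_right : U i ⊓ U j ≤ U j)).op (coef hL (v j) (v i)))
    (fun i j => by
      have h := congrArg (((Scheme.Modules.pullback r).obj (Twist.twist 𝒮 1)).presheaf.map
        (homOfLE (inf_le_right : U i ⊓ U j ≤ U j)).op) (hP j i)
      simp only [Scheme.Modules.map_smul, resT, res_res] at h ⊢
      exact h.symm)
    (fun i j => by
      simp only [resT, res_res]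
      exact (res_coef_smul hL (v j) (v i) inf_le_right).symm)
  refine ⟨τ, fun m => ?_⟩
  refine TopCat.Sheaf.eq_of_locally_eq' (⟨L.presheaf, L.isSheaf⟩ : TopCat.Sheaf Ab X) U ⊤
    (fun n => homOfLE le_top) hcov.ge _ _ fun n => ?_
  show resT (τ.hom.app ⊤ (pForm r (g m))) (U n) = resT (v m) (U n)
  rw [← app_resT, ← hP n m, ← res_coef_smul hL (v n) (v m) le_rfl]
  refine (Scheme.Modules.Hom.app_smul τ.hom _ _).trans ?_
  rw [hτ n]
  congr 1
  exact (res_self (M := Coh.structureModule X) le_rfl _).symm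

end Groth.Agent.ProjUPLib
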