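import Groth.Agent.ProjTwistLib.Ample
import Groth.Agent.ProjCoh.PSData
import Groth.Prelude.Def_ProjUP

/-! Morphisms into the chart `D(g)`, `g` of degree one, of `Proj` of a graded algebra generated in degree one. -/

set_option autoImplicit false
set_option backward.isDefEq.respectTransparency false
set_option linter.style.haveILetI false

universe u

open CategoryTheory CategoryTheory.Limits AlgebraicGeometry TopologicalSpace Opposite
open HomogeneousLocalization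

noncomputable section

namespace Groth.Agent.ProjUPLib

variable {A S : Type u} [CommRing A] [CommRing S] [Algebra A S] (𝒮 : ℕ → Submodule A S) [GradedAlgebra 𝒮]

/-- The structure morphism to `Spec A`. -/
abbrev toBase : Proj 𝒮 ⟶ Spec (CommRingCat.of A) :=
  Proj.toSpecZero 𝒮 ≫ Spec.map (CommRingCat.ofHom (algebraMap A (𝒮 0)))

/-- Constants in the chart ring. -/
def constAway (g : S) : A →+* Away 𝒮 g :=
  (fromZeroRingHom 𝒮 (Submonoid.powers g)).comp (algebraMap A (𝒮 0))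

variable {𝒮}

/-- Dehomogenisation at a form of degree one. -/
def dehom (g : 𝒮 1) : S →+* Away 𝒮 g.1 :=
  (DirectSum.toSemiring
    (fun i => AddMonoidHom.mk' (fun a : 𝒮 i => Away.mk 𝒮 g.2 i a.1 (by rw [smul_eq_mul, mul_one]; exact a.2))
      fun a b => val_injective _ (by
        rw [val_add, Away.val_mk, Away.val_mk, Away.val_mk, Localization.add_mk_self]
        rfl))
    (val_injective _ (by simp [Away.val_mk, ← Localization.mk_one]))
    (fun {i j} a b => val_injective _ (by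
      simp only [AddMonoidHom.mk'_apply, val_mul, Away.val_mk, Localization.mk_mul]
      congr 1
      exact Subtype.ext (pow_add g.1 i j)))).comp (DirectSum.decomposeRingEquiv 𝒮).toRingHom

theorem dehom_mem (g : 𝒮 1) {k : ℕ} (a : S) (ha : a ∈ 𝒮 k) :
    dehom g a = Away.mk 𝒮 g.2 k a (by rw [smul_eq_mul, mul_one]; exact ha) := by
  rw [dehom, RingHom.comp_apply, RingEquiv.toRingHom_eq_coe, RingEquiv.coe_toRingHom,
    show DirectSum.decomposeRingEquiv 𝒮 a = DirectSum.decompose 𝒮 a from rfl,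
    DirectSum.decompose_of_mem 𝒮 ha, DirectSum.toSemiring_of]
  rfl

theorem dehom_algebraMap (g : 𝒮 1) (a : A) : dehom g (algebraMap A S a) = constAway 𝒮 g.1 a := by
  rw [dehom_mem g (k := 0) _ (SetLike.algebraMap_mem_graded 𝒮 a)]
  refine val_injective _ ?_
  rw [Away.val_mk]
  refine Eq.trans ?_ (val_mk _).symm
  simp

theorem dehom_surjective (g : 𝒮 1) : Function.Surjective (dehom g) := fun z => by
  obtain ⟨k, a, ha, rfl⟩ := Away.mk_surjective 𝒮 g.2 z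
  exact ⟨a, dehom_mem g a (by simpa using ha)⟩

variable {κ : Type u} {ι : κ → S} (hι : ∀ m : κ, ι m ∈ 𝒮 1)

theorem dehom_ι (g : 𝒮 1) (m : κ) : dehom g (ι m) = ProjCoh.awayRatio 𝒮 g.2 ⟨ι m, hι m⟩ :=
  dehom_mem g _ (hι m)

theorem adjoin_range {M : Type u} [AddCommGroup M] [Module A M] {ι : M →ₗ[A] S} (hsym : IsSymmetricAlgebra ι) :
    Algebra.adjoin A (Set.range ι) = ⊤ :=
  eq_top_iff.2 fun x hx => by
    clear hx
    induction x using hsym.induction with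
    | algebraMap r => exact Subalgebra.algebraMap_mem _ r
    | ι y => exact Algebra.subset_adjoin ⟨y, rfl⟩
    | mul a b ha hb => exact mul_mem ha hb
    | add a b ha hb => exact add_mem ha hb

/-- Ring maps out of a chart ring are determined by the constants and the ratios. -/
theorem away_hom_ext (hadj : Algebra.adjoin A (Set.range ι) = ⊤) (g : 𝒮 1) {B : Type u} [CommRing B]
    (φ φ' : Away 𝒮 g.1 →+* B) (hA : ∀ a, φ (constAway 𝒮 g.1 a) = φ' (constAway 𝒮 g.1 a))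
    (hM : ∀ m, φ (ProjCoh.awayRatio 𝒮 g.2 ⟨ι m, hι m⟩) = φ' (ProjCoh.awayRatio 𝒮 g.2 ⟨ι m, hι m⟩)) :
    φ = φ' := by
  refine RingHom.ext fun z => ?_
  obtain ⟨x, rfl⟩ := dehom_surjective g z
  have hx : x ∈ Algebra.adjoin A (Set.range ι) := hadj ▸ Algebra.mem_top
  induction hx using Algebra.adjoin_induction with
  | mem x hx =>
    obtain ⟨m, rfl⟩ := hx
    rw [dehom_ι hι]
    exact hM m
  | algebraMap a => rw [dehom_algebraMap]; exact hA a
  | add x y _ _ hx hy => simp only [map_add, hx, hy]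
  | mul x y _ _ hx hy => simp only [map_mul, hx, hy]

/-- Evaluation of the chart ring by a map under which `g` is invertible. -/
def evalChart (g : 𝒮 1) {B : Type u} [CommRing B] (ev : S →+* B) (hg : ev g.1 = 1) : Away 𝒮 g.1 →+* B :=
  (IsLocalization.Away.lift (S := Localization.Away g.1) g.1 (g := ev) (hg ▸ isUnit_one)).comp
    (algebraMap (Away 𝒮 g.1) (Localization.Away g.1))

theorem evalChart_mk (g : 𝒮 1) {B : Type u} [CommRing B] (ev : S →+* B) (hg : ev g.1 = 1) (k : ℕ) (a : S)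
    (ha : a ∈ 𝒮 (k • 1)) : evalChart g ev hg (Away.mk 𝒮 g.2 k a ha) = ev a := by
  have h : val (Away.mk 𝒮 g.2 k a ha) * algebraMap _ (Localization.Away g.1) (g.1 ^ k) =
      algebraMap _ (Localization.Away g.1) a := by
    rw [Away.val_mk, ← Localization.mk_one_eq_algebraMap, ← Localization.mk_one_eq_algebraMap,
      Localization.mk_mul, Localization.mk_eq_mk_iff, Localization.r_iff_exists]
    exact ⟨1, by simp [mul_comm]⟩
  have h2 := congrArg (IsLocalization.Away.lift (S := Localization.Away g.1) g.1 (g := ev) (hg ▸ isUnit_one)) h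
  simp only [map_mul, IsLocalization.Away.lift_eq, map_pow, hg, one_pow, mul_one] at h2
  simpa [evalChart, HomogeneousLocalization.algebraMap_apply] using h2

theorem evalChart_dehom (g : 𝒮 1) {B : Type u} [CommRing B] (ev : S →+* B) (hg : ev g.1 = 1) (x : S) :
    evalChart g ev hg (dehom g x) = ev x := by
  classical
  rw [← DirectSum.sum_support_decompose 𝒮 x, map_sum, map_sum, map_sum]
  refine Finset.sum_congr rfl fun k _ => ?_
  rw [dehom_mem g _ (DirectSum.decompose 𝒮 x k).2, evalChart_mk]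

/-! ### Morphisms into a chart -/

variable {W W' : Scheme.{u}} (f : W ⟶ Proj 𝒮) (g : 𝒮 1)

/-- The ring map of a morphism into a chart. -/
def chartMap (hf : ⊤ ≤ f ⁻¹ᵁ Proj.basicOpen 𝒮 g.1) : CommRingCat.of (Away 𝒮 g.1) ⟶ Γ(W, ⊤) :=
  Proj.awayToSection 𝒮 g.1 ≫ f.appLE (Proj.basicOpen 𝒮 g.1) ⊤ hf

variable (hf : ⊤ ≤ f ⁻¹ᵁ Proj.basicOpen 𝒮 g.1)

theorem eq_chartMap : f = W.toSpecΓ ≫ Spec.map (chartMap f g hf) ≫ Proj.awayι 𝒮 g.1 g.2 one_pos := by
  have h1 : (⊤ : W.Opens).toSpecΓ ≫ Spec.map (chartMap f g hf) =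
      f.resLE (Proj.basicOpen 𝒮 g.1) ⊤ hf ≫ Proj.basicOpenToSpec 𝒮 g.1 := by
    rw [chartMap, Spec.map_comp, Scheme.Opens.toSpecΓ_SpecMap_appLE_assoc]
    rfl
  haveI : IsIso (⊤ : W.Opens).ι := W.topIso.isIso_hom
  rw [← cancel_epi (⊤ : W.Opens).ι]
  have h2 : (⊤ : W.Opens).toSpecΓ = (⊤ : W.Opens).ι ≫ W.toSpecΓ := Scheme.Opens.toSpecΓ_top
  rw [← Category.assoc, ← h2, ← Category.assoc, h1, Category.assoc, Proj.awayι,
    ← Proj.basicOpenIsoSpec_hom 𝒮 g.1 g.2 one_pos, Iso.hom_inv_id_assoc, Scheme.Hom.resLE_comp_ι]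

theorem toSpecΓ_inj {B : CommRingCat.{u}} {a b : B ⟶ Γ(W, ⊤)}
    (h : W.toSpecΓ ≫ Spec.map a = W.toSpecΓ ≫ Spec.map b) : a = b := by
  have h' := congrArg Scheme.Hom.appTop h
  rw [Scheme.Hom.comp_appTop, Scheme.Hom.comp_appTop, Scheme.toSpecΓ_appTop, Scheme.ΓSpecIso_naturality,
    Scheme.ΓSpecIso_naturality, cancel_epi] at h'
  exact h'

theorem top_le_preimage_awayι {a : CommRingCat.of (Away 𝒮 g.1) ⟶ Γ(W, ⊤)} :
    ⊤ ≤ (W.toSpecΓ ≫ Spec.map a ≫ Proj.awayι 𝒮 g.1 g.2 one_pos) ⁻¹ᵁ Proj.basicOpen 𝒮 g.1 := fun x _ => by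
  show (W.toSpecΓ ≫ Spec.map a ≫ Proj.awayι 𝒮 g.1 g.2 one_pos) x ∈ Proj.basicOpen 𝒮 g.1
  rw [← Proj.opensRange_awayι 𝒮 g.1 g.2 one_pos]
  exact ⟨(W.toSpecΓ ≫ Spec.map a) x, by rw [← Scheme.Hom.comp_apply, Category.assoc]⟩

theorem chartMap_mk (a : CommRingCat.of (Away 𝒮 g.1) ⟶ Γ(W, ⊤)) (h) :
    chartMap (W.toSpecΓ ≫ Spec.map a ≫ Proj.awayι 𝒮 g.1 g.2 one_pos) g h = a := by
  refine toSpecΓ_inj ?_
  rw [← cancel_mono (Proj.awayι 𝒮 g.1 g.2 one_pos), Category.assoc, Category.assoc]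
  exact (eq_chartMap _ g h).symm

theorem comp_toBase :
    f ≫ toBase 𝒮 = W.toSpecΓ ≫ Spec.map (CommRingCat.ofHom (constAway 𝒮 g.1) ≫ chartMap f g hf) := by
  conv_lhs => rw [eq_chartMap f g hf]
  rw [toBase, Category.assoc, Category.assoc, Proj.awayι_toSpecZero_assoc, ← Spec.map_comp, ← Spec.map_comp]
  rfl

theorem toGlobal_toSpecΓ (φ : CommRingCat.of A ⟶ Γ(W, ⊤)) (a : A) :
    ProjUP.toGlobal (W.toSpecΓ ≫ Spec.map φ) a = φ a := by
  have h : (Scheme.ΓSpecIso (CommRingCat.of A)).inv ≫ (W.toSpecΓ ≫ Spec.map φ).appTop = φ := by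
    rw [Scheme.Hom.comp_appTop, Scheme.toSpecΓ_appTop, Scheme.ΓSpecIso_naturality, Iso.inv_hom_id_assoc]
  exact ConcreteCategory.congr_hom h a

theorem chartMap_const (a : A) : chartMap f g hf (constAway 𝒮 g.1 a) = ProjUP.toGlobal (f ≫ toBase 𝒮) a := by
  rw [comp_toBase f g hf, toGlobal_toSpecΓ]
  rfl

/-- The ratio `a / g` seen on the source. -/
def ratioAt (a : 𝒮 1) : Γ(W, ⊤) := chartMap f g hf (ProjCoh.awayRatio 𝒮 g.2 a)

theorem ratioAt_eq (a : 𝒮 1) :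
    ratioAt f g hf a = f.appLE (Proj.basicOpen 𝒮 g.1) ⊤ hf (ProjCoh.ratioSec 𝒮 g a) := by
  rw [← ProjCoh.awayToSection_ratio]
  rfl

theorem hom_ext_chart (hadj : Algebra.adjoin A (Set.range ι) = ⊤) (f' : W ⟶ Proj 𝒮)
    (hf' : ⊤ ≤ f' ⁻¹ᵁ Proj.basicOpen 𝒮 g.1) (hb : f ≫ toBase 𝒮 = f' ≫ toBase 𝒮)
    (h : ∀ m, ratioAt f g hf ⟨ι m, hι m⟩ = ratioAt f' g hf' ⟨ι m, hι m⟩) : f = f' := by
  rw [eq_chartMap f g hf, eq_chartMap f' g hf']
  congr 3
  refine CommRingCat.hom_ext (away_hom_ext hι hadj g _ _ (fun a => ?_) h)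
  exact (chartMap_const f g hf a).trans (hb ▸ (chartMap_const f' g hf' a).symm)

theorem preimage_basicOpen_ratio (a : 𝒮 1) :
    f ⁻¹ᵁ Proj.basicOpen 𝒮 a.1 = W.basicOpen (ratioAt f g hf a) := by
  rw [ratioAt_eq, Scheme.basicOpen_appLE, ProjCoh.basicOpen_ratioSec]
  ext x
  exact ⟨fun h => ⟨trivial, hf (Opens.mem_top x), h⟩, fun h => h.2.2⟩

theorem ratioAt_comp (k : W' ⟶ W) (a : 𝒮 1) (h : ⊤ ≤ (k ≫ f) ⁻¹ᵁ Proj.basicOpen 𝒮 g.1) :
    ratioAt (k ≫ f) g h a = k.appTop (ratioAt f g hf a) := by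
  rw [ratioAt_eq, ratioAt_eq]
  have e : f.appLE (Proj.basicOpen 𝒮 g.1) ⊤ hf ≫ k.appLE ⊤ ⊤ le_top =
      (k ≫ f).appLE (Proj.basicOpen 𝒮 g.1) ⊤ h := Scheme.Hom.appLE_comp_appLE ..
  rw [← e, CommRingCat.comp_apply]
  simp [Scheme.Hom.appLE]

theorem ratio_mul (g' a : 𝒮 1) {V : (Proj 𝒮).Opens} (h : V ≤ Proj.basicOpen 𝒮 g.1)
    (h' : V ≤ Proj.basicOpen 𝒮 g'.1) :
    (Proj 𝒮).presheaf.map (homOfLE h).op (ProjCoh.ratioSec 𝒮 g g') *
      (Proj 𝒮).presheaf.map (homOfLE h').op (ProjCoh.ratioSec 𝒮 g' a) =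
        (Proj 𝒮).presheaf.map (homOfLE h).op (ProjCoh.ratioSec 𝒮 g a) := by
  refine Subtype.ext (funext fun x => val_injective _ ?_)
  show val (HomogeneousLocalization.mk ⟨1, g', g, h x.2⟩ * HomogeneousLocalization.mk ⟨1, a, g', h' x.2⟩) =
    val (HomogeneousLocalization.mk ⟨1, a, g, h x.2⟩)
  rw [val_mul, val_mk, val_mk, val_mk, Localization.mk_mul, Localization.mk_eq_mk_iff, Localization.r_iff_exists]
  exact ⟨1, by simp; ring⟩

theorem ratioAt_mul (g' a : 𝒮 1) (hf' : ⊤ ≤ f ⁻¹ᵁ Proj.basicOpen 𝒮 g'.1) :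
    ratioAt f g hf g' * ratioAt f g' hf' a = ratioAt f g hf a := by
  have hle : ⊤ ≤ f ⁻¹ᵁ (Proj.basicOpen 𝒮 g.1 ⊓ Proj.basicOpen 𝒮 g'.1) := fun x hx => ⟨hf hx, hf' hx⟩
  have h := congrArg (f.appLE _ ⊤ hle)
    (ratio_mul g g' a (inf_le_left : Proj.basicOpen 𝒮 g.1 ⊓ Proj.basicOpen 𝒮 g'.1 ≤ _) inf_le_right)
  simp only [map_mul, ← CommRingCat.comp_apply, Scheme.Hom.map_appLE] at h
  rw [ratioAt_eq, ratioAt_eq, ratioAt_eq]
  exact h

end Groth.Agent.ProjUPLib
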