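import Groth.Agent.ProjUPLib.Sec
import Groth.Agent.ProjUPLib.Chart

/-! The sections of `O(1)` given by forms of degree one, and their inverse images. -/

set_option autoImplicit false
set_option backward.isDefEq.respectTransparency false
set_option linter.style.haveILetI false

universe u

open CategoryTheory CategoryTheory.Limits AlgebraicGeometry TopologicalSpace Opposite
open Groth.Agent.PullbackMod Groth.Agent.DCohLib Groth.Agent.ParaFLib Groth.Agent.AmpleLib
open Groth.Agent.ProjTwist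

noncomputable section

namespace Groth.Agent.ProjUPLib

variable {A S : Type u} [CommRing A] [CommRing S] [Algebra A S] {𝒮 : ℕ → Submodule A S} [GradedAlgebra 𝒮]
variable {κ : Type u} {ι : κ → S} (hι : ∀ m : κ, ι m ∈ 𝒮 1)

/-- The section of `O(1)` given by a form of degree one. -/
abbrev formSec (a : 𝒮 1) : ProjUP.Γm (Twist.twist 𝒮 1) := Twist.globalOf 𝒮 a

theorem gen_formSec (a : 𝒮 1) {O : (Proj 𝒮).Opens} (hO : O ≤ Proj.basicOpen 𝒮 a.1) :
    Gen O (resT (formSec a) O) := by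
  have := ProjTwistLib.gen_globalOf a hO
  exact this

theorem ratio_smul_formSec (g a : 𝒮 1) :
    ProjCoh.ratioSec 𝒮 g a • resT (formSec g) (Proj.basicOpen 𝒮 g.1) =
      resT (formSec a) (Proj.basicOpen 𝒮 g.1) := by
  refine sect_ext fun x => ?_
  rw [valAt_smul]
  show HomogeneousLocalization.val (HomogeneousLocalization.mk ⟨1, a, g, x.2⟩) *
    Localization.mk g.1 ⟨1, ProjCoh.one_notMem x.1⟩ = Localization.mk a.1 ⟨1, ProjCoh.one_notMem x.1⟩
  rw [HomogeneousLocalization.val_mk, Localization.mk_mul, Localization.mk_eq_mk_iff, Localization.r_iff_exists]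
  exact ⟨1, by simp [mul_comm]⟩

include hι in
theorem iSup_basicOpen_ι (hadj : Algebra.adjoin A (Set.range ι) = ⊤) :
    ⨆ m, Proj.basicOpen 𝒮 (ι m) = ⊤ := by
  refine Proj.iSup_basicOpen_eq_top' 𝒮 _ (fun m => ⟨1, hι m⟩) (eq_top_iff.2 fun x _ => ?_)
  have hx : x ∈ Algebra.adjoin A (Set.range ι) := hadj ▸ Algebra.mem_top
  induction hx using Algebra.adjoin_induction with
  | mem x hx => exact Algebra.subset_adjoin hx
  | algebraMap a =>
    exact Subalgebra.algebraMap_mem (Algebra.adjoin (𝒮 0) (Set.range ι)) (algebraMap A (𝒮 0) a)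
  | add x y _ _ hx hy => exact add_mem (hx trivial) (hy trivial)
  | mul x y _ _ hx hy => exact mul_mem (hx trivial) (hy trivial)

include hι in
theorem hasUnit_one (hadj : Algebra.adjoin A (Set.range ι) = ⊤) (x : Proj 𝒮) :
    ProjTwistLib.HasUnit 𝒮 1 x := by
  obtain ⟨m, hm⟩ := Opens.mem_iSup.1 ((iSup_basicOpen_ι hι hadj).ge (Opens.mem_top x))
  exact_mod_cast ProjTwistLib.hasUnit_of_mem (d := 1) ⟨ι m, hι m⟩ hm

include hι in
theorem isInvertible_twist_one (hadj : Algebra.adjoin A (Set.range ι) = ⊤) :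
    PicF.IsInvertible (Twist.twist 𝒮 1) :=
  ProjTwistLib.isInvertible_of_hasUnit (hasUnit_one hι hadj)

include hι in
theorem gl_formSec (hadj : Algebra.adjoin A (Set.range ι) = ⊤) (a : 𝒮 1) :
    gl (formSec a) = Proj.basicOpen 𝒮 a.1 := by
  refine le_antisymm (fun x hx => ?_) (le_gl (gen_formSec a le_rfl))
  refine ProjTwistLib.notMem_of_gen a (hasUnit_one hι hadj x) hx ?_
  exact gen_gl (isInvertible_twist_one hι hadj) (formSec a)

variable {X : Scheme.{u}} (r : X ⟶ Proj 𝒮)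

/-- The inverse image of a form. -/
abbrev pForm (a : 𝒮 1) : ProjUP.Γm ((Scheme.Modules.pullback r).obj (Twist.twist 𝒮 1)) :=
  ProjUP.pullSec r (Twist.twist 𝒮 1) (formSec a)

include hι in
theorem gl_pForm (hadj : Algebra.adjoin A (Set.range ι) = ⊤) (a : 𝒮 1) :
    gl (pForm r a) = r ⁻¹ᵁ Proj.basicOpen 𝒮 a.1 := by
  rw [pForm, gl_pullSec r (isInvertible_twist_one hι hadj), gl_formSec hι hadj]

include hι in
theorem gen_pForm (hadj : Algebra.adjoin A (Set.range ι) = ⊤) (g : 𝒮 1) {U : X.Opens}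
    (hU : U ≤ r ⁻¹ᵁ Proj.basicOpen 𝒮 g.1) : Gen U (resT (pForm r g) U) := by
  rw [pForm, resT_pullSec r hU]
  exact gen_pullMap r (isInvertible_twist_one hι hadj) (gen_formSec g le_rfl) hU

theorem appLE_ratio_smul (g a : 𝒮 1) {U : X.Opens} (hU : U ≤ r ⁻¹ᵁ Proj.basicOpen 𝒮 g.1) :
    r.appLE _ U hU (ProjCoh.ratioSec 𝒮 g a) • resT (pForm r g) U = resT (pForm r a) U := by
  rw [pForm, pForm, resT_pullSec r hU, resT_pullSec r hU, ← pullMap_smul, ratio_smul_formSec]

theorem ratioAt_ι {U : X.Opens} (g a : 𝒮 1) (hU : U ≤ r ⁻¹ᵁ Proj.basicOpen 𝒮 g.1)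
    (h : ⊤ ≤ (U.ι ≫ r) ⁻¹ᵁ Proj.basicOpen 𝒮 g.1) :
    ratioAt (U.ι ≫ r) g h a = U.ι.appLE U ⊤ (by simp) (r.appLE _ U hU (ProjCoh.ratioSec 𝒮 g a)) := by
  rw [ratioAt_eq, ← CommRingCat.comp_apply, Scheme.Hom.appLE_comp_appLE]

theorem top_le_ι_preimage {U : X.Opens} {D : (Proj 𝒮).Opens} (hU : U ≤ r ⁻¹ᵁ D) :
    ⊤ ≤ (U.ι ≫ r) ⁻¹ᵁ D := fun x _ => hU x.2

theorem ι_appLE_injective (U : X.Opens) :
    Function.Injective (U.ι.appLE U ⊤ (by simp) : Γ(X, U) → Γ(U.toScheme, ⊤)) := by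
  have : IsIso (U.ι.appLE U ⊤ (by simp)) := by
    rw [Scheme.Opens.ι_appLE, Subsingleton.elim (homOfLE _) (eqToHom U.ι_image_top)]
    infer_instance
  exact (ConcreteCategory.bijective_of_isIso (C := CommRingCat) _).1

end Groth.Agent.ProjUPLib
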