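import Groth.Agent.ProjUPLib.Exists
import Groth.Agent.QCohLib.Criterion

/-! Generating global sections of an invertible module on an affine scheme and their relations. -/

set_option autoImplicit false
set_option backward.isDefEq.respectTransparency false
set_option linter.style.haveILetI false

universe u

open CategoryTheory CategoryTheory.Limits AlgebraicGeometry TopologicalSpace Opposite
open Groth.Agent.PullbackMod Groth.Agent.DCohLib Groth.Agent.ParaFLib Groth.Agent.AmpleLib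

noncomputable section

namespace Groth.Agent.ProjUPLib

variable {X : Scheme.{u}} [IsAffine X] {L : X.Modules}

theorem eq_zero_pow (hL : PicF.IsInvertible L) (f : Γ(X, ⊤)) (z : ProjUP.Γm L)
    (hz : resT z (X.basicOpen f) = 0) : ∃ n : ℕ, f ^ n • z = 0 := by
  haveI := Groth.Agent.InvExt.isQCoh_of_isInvertible hL
  obtain ⟨n, hn⟩ := (QCohLib.locAt L (isAffineOpen_top X)).kill f z hz
  refine ⟨n, ?_⟩
  rw [CohBase.sc_apply] at hn
  rwa [show X.presheaf.map (homOfLE (le_refl (⊤ : X.Opens))).op (f ^ n) = f ^ n from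
    res_self (M := Coh.structureModule X) le_rfl (f ^ n)] at hn

omit [IsAffine X] in
theorem resT_smul (a : Γ(X, ⊤)) (z : ProjUP.Γm L) (U : X.Opens) :
    resT (a • z) U = X.presheaf.map (homOfLE (le_top : U ≤ ⊤)).op a • resT z U :=
  L.map_smul (homOfLE (le_top : U ≤ ⊤)) a z

omit [IsAffine X] in
theorem isUnit_res_basicOpen_pow (f : Γ(X, ⊤)) (n : ℕ) :
    IsUnit (X.presheaf.map (homOfLE (le_top : X.basicOpen f ≤ ⊤)).op (f ^ n)) := by
  rw [map_pow]
  exact (RingedSpace.isUnit_res_basicOpen _ f).pow n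

/-- Near every point of `gl σ`, every section is a multiple of `σ` up to a power of `f`. -/
theorem exists_pow_smul_eq (hL : PicF.IsInvertible L) (σ τ : ProjUP.Γm L) (f : Γ(X, ⊤))
    (hf : X.basicOpen f ≤ gl σ) : ∃ (n : ℕ) (b : Γ(X, ⊤)), f ^ n • τ = b • σ := by
  letI : Algebra Γ(X, ⊤) Γ(X, X.basicOpen f) :=
    (X.presheaf.map (homOfLE (le_top : X.basicOpen f ≤ ⊤)).op).hom.toAlgebra
  haveI : IsLocalization.Away f Γ(X, X.basicOpen f) := (isAffineOpen_top X).isLocalization_basicOpen f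
  obtain ⟨⟨b, _, k, rfl⟩, hb⟩ := IsLocalization.surj (Submonoid.powers f)
    (X.presheaf.map (homOfLE hf).op (coef hL σ τ))
  change _ * X.presheaf.map (homOfLE (le_top : X.basicOpen f ≤ ⊤)).op (f ^ k) =
    X.presheaf.map (homOfLE (le_top : X.basicOpen f ≤ ⊤)).op b at hb
  have hz : resT (f ^ k • τ - b • σ) (X.basicOpen f) = 0 := by
    rw [resT, map_sub, sub_eq_zero, ← resT, ← resT, resT_smul, resT_smul, ← hb, mul_comm, mul_smul,
      res_coef_smul]
  obtain ⟨n, hn⟩ := eq_zero_pow hL f _ hz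
  rw [smul_sub, sub_eq_zero, smul_smul, smul_smul, ← pow_add] at hn
  exact ⟨n + k, f ^ n * b, hn⟩

theorem mem_span_of_generatedBy (hL : PicF.IsInvertible L) {κ : Type*} {s : κ → ProjUP.Γm L}
    (hs : ProjUP.GeneratedBy L s) (τ : ProjUP.Γm L) : τ ∈ Submodule.span Γ(X, ⊤) (Set.range s) := by
  let I : Ideal Γ(X, ⊤) := (Submodule.span Γ(X, ⊤) (Set.range s)).comap (LinearMap.toSpanSingleton Γ(X, ⊤) _ τ)
  suffices h : I = ⊤ by
    have h1 : (1 : Γ(X, ⊤)) ∈ I := h ▸ Submodule.mem_top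
    change (1 : Γ(X, ⊤)) • τ ∈ Submodule.span Γ(X, ⊤) (Set.range s) at h1
    rwa [one_smul] at h1
  rw [← Ideal.radical_eq_top, ← Ideal.span_eq I.radical, ← (isAffineOpen_top X).iSup_basicOpen_eq_self_iff]
  refine eq_top_iff.2 fun x _ => ?_
  obtain ⟨i, hi⟩ := exists_mem_gl hL hs x
  obtain ⟨f, hf, hxf⟩ := (isAffineOpen_top X).exists_basicOpen_le (V := gl (s i)) ⟨x, hi⟩ (Opens.mem_top x)
  obtain ⟨n, b, hnb⟩ := exists_pow_smul_eq hL (s i) τ f hf
  refine Opens.mem_iSup.2 ⟨⟨f, ⟨n, ?_⟩⟩, hxf⟩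
  show f ^ n • τ ∈ Submodule.span Γ(X, ⊤) (Set.range s)
  rw [hnb]
  exact Submodule.smul_mem _ _ (Submodule.subset_span ⟨i, rfl⟩)

theorem exists_iso_of_relations {L' : X.Modules} (hL : PicF.IsInvertible L) (hL' : PicF.IsInvertible L')
    {κ : Type u} {s : κ → ProjUP.Γm L} {s' : κ → ProjUP.Γm L'}
    (hs : ProjUP.GeneratedBy L s) (hs' : ProjUP.GeneratedBy L' s')
    (hrel : ∀ i j (a b : Γ(X, ⊤)), a • s i = b • s j → a • s' i = b • s' j) :
    ∃ e : L ≅ L', ∀ i, e.hom.app ⊤ (s i) = s' i := by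
  have key : ∀ i (x : X), x ∈ gl (s i) → ∃ f : Γ(X, ⊤), x ∈ X.basicOpen f ∧
      ∃ hf : X.basicOpen f ≤ gl (s i), ∀ m,
        X.presheaf.map (homOfLE hf).op (coef hL (s i) (s m)) • resT (s' i) (X.basicOpen f) =
          resT (s' m) (X.basicOpen f) := fun i x hx => by
    obtain ⟨f, hf, hxf⟩ := (isAffineOpen_top X).exists_basicOpen_le (V := gl (s i)) ⟨x, hx⟩ (Opens.mem_top x)
    refine ⟨f, hxf, hf, fun m => ?_⟩
    obtain ⟨n, b, hnb⟩ := exists_pow_smul_eq hL (s i) (s m) f hf
    have h1 := congrArg (resT · (X.basicOpen f)) hnb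
    have h2 := congrArg (resT · (X.basicOpen f)) (hrel m i (f ^ n) b hnb)
    simp only [resT_smul] at h1 h2
    rw [← res_coef_smul hL (s i) (s m) hf, ← mul_smul] at h1
    have hc : X.presheaf.map (homOfLE (le_top : X.basicOpen f ≤ ⊤)).op (f ^ n) *
        X.presheaf.map (homOfLE hf).op (coef hL (s i) (s m)) =
          X.presheaf.map (homOfLE (le_top : X.basicOpen f ≤ ⊤)).op b := by
      apply ((gen_gl hL (s i)).res hf (X.basicOpen f) le_rfl).1
      show _ • _ = _ • _
      rw [res_self']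
      simp only [resT, res_res]
      exact h1
    rw [← hc, mul_smul] at h2
    exact ((isUnit_res_basicOpen_pow f n).smul_left_cancel.1 h2).symm
  have hU : ∀ i, gl (s i) ≤ gl (s' i) := fun i x hx => by
    obtain ⟨f, hxf, hf, hm⟩ := key i x hx
    obtain ⟨m, hxm⟩ := exists_mem_gl hL' hs' x
    have hb := (mem_gl_iff hL').1 hxm
    have h := congrArg (L'.presheaf.germ (X.basicOpen f) x hxf) (hm m)
    rw [germ_smul', resT, resT] at h
    simp only [TopCat.Presheaf.germ_res_apply] at h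
    change X.presheaf.germ (gl (s i)) x (hf hxf) (coef hL (s i) (s m)) • L'.presheaf.germ ⊤ x trivial (s' i) =
      L'.presheaf.germ ⊤ x trivial (s' m) at h
    rw [mem_gl_iff hL']
    refine ⟨fun a b hab => ?_, fun z => ?_⟩
    · apply hb.1
      refine (congrArg (a • ·) h.symm).trans (Eq.trans ?_ (congrArg (b • ·) h))
      exact (smul_comm a _ _).trans ((congrArg (_ • ·) hab).trans (smul_comm b _ _).symm)
    · obtain ⟨c, rfl⟩ := hb.2 z
      exact ⟨c * X.presheaf.germ (gl (s i)) x (hf hxf) (coef hL (s i) (s m)),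
        (mul_smul _ _ _).trans (congrArg (c • ·) h)⟩
  have hsm : ∀ i m, coef hL (s i) (s m) • resT (s' i) (gl (s i)) = resT (s' m) (gl (s i)) := fun i m => by
    refine TopCat.Presheaf.section_ext (⟨L'.presheaf, L'.isSheaf⟩ : TopCat.Sheaf Ab X) (gl (s i)) _ _ fun x hx => ?_
    obtain ⟨f, hxf, hf, hm⟩ := key i x hx
    have h := congrArg (L'.presheaf.germ (X.basicOpen f) x hxf) (hm m)
    rw [germ_smul', resT, resT, TopCat.Presheaf.germ_res_apply, TopCat.Presheaf.germ_res_apply,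
      TopCat.Presheaf.germ_res_apply] at h
    show L'.presheaf.germ (gl (s i)) x hx _ = L'.presheaf.germ (gl (s i)) x hx _
    rw [germ_smul', resT, resT, TopCat.Presheaf.germ_res_apply, TopCat.Presheaf.germ_res_apply]
    exact h
  obtain ⟨e, he⟩ := exists_iso_of_bases (L := L) (L' := L') (U := fun i => gl (s i))
    (s := fun i => resT (s i) (gl (s i))) (t := fun i => resT (s' i) (gl (s i))) (iSup_gl hL hs)
    (fun i => gen_gl hL (s i))
    (fun i => by
      have := (gen_gl hL' (s' i)).res (hU i)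
      simp only [resT, res_res] at this
      exact this)
    (fun i j => X.presheaf.map (homOfLE (inf_le_right : gl (s i) ⊓ gl (s j) ≤ gl (s j))).op (coef hL (s j) (s i)))
    (fun i j => by
      simp only [resT, res_res]
      exact (res_coef_smul hL (s j) (s i) inf_le_right).symm)
    (fun i j => by
      have h := congrArg (L'.presheaf.map (homOfLE (inf_le_right : gl (s i) ⊓ gl (s j) ≤ gl (s j))).op) (hsm j i)
      simp only [Scheme.Modules.map_smul, resT, res_res] at h ⊢
      exact h.symm)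
  refine ⟨e, fun m => ?_⟩
  refine TopCat.Sheaf.eq_of_locally_eq' (⟨L'.presheaf, L'.isSheaf⟩ : TopCat.Sheaf Ab X) (fun i => gl (s i)) ⊤
    (fun n => homOfLE le_top) (iSup_gl hL hs).ge _ _ fun n => ?_
  show resT (e.hom.app ⊤ (s m)) (gl (s n)) = resT (s' m) (gl (s n))
  rw [← app_resT, ← coef_smul hL (s n) (s m), ← hsm n m]
  exact (Scheme.Modules.Hom.app_smul e.hom _ _).trans (congrArg _ (he n))

end Groth.Agent.ProjUPLib
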