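import Groth.Agent.ParaFLib.Ideal
import Mathlib.RingTheory.Spectrum.Prime.FreeLocus
import Mathlib.LinearAlgebra.Dimension.Free

/-! Modules with a generator up to powers of an element. -/

set_option autoImplicit false
set_option backward.isDefEq.respectTransparency false
set_option linter.style.haveILetI false

universe u

open CategoryTheory AlgebraicGeometry TopologicalSpace Opposite
open Groth.Agent.ParaFLib

noncomputable section

namespace Groth.Agent.ProjUPLib

variable {R : Type u} [CommRing R] {Q : Type u} [AddCommGroup Q] [Module R Q]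

/-- `ξ` is a basis of `Q` up to powers of `f`. -/
structure GenUpTo (f : R) (ξ : Q) : Prop where
  gen : ∀ z : Q, ∃ (k : ℕ) (a : R), f ^ k • z = a • ξ
  tors : ∀ a : R, a • ξ = 0 → ∃ k : ℕ, f ^ k * a = 0

theorem GenUpTo.map {f : R} {ξ : Q} (h : GenUpTo f ξ) {Q' : Type u} [AddCommGroup Q'] [Module R Q']
    (e : Q ≃ₗ[R] Q') : GenUpTo f (e ξ) where
  gen z := by
    obtain ⟨k, a, ha⟩ := h.gen (e.symm z)
    exact ⟨k, a, by simpa using congrArg e ha⟩
  tors a ha := h.tors a (e.injective (by simpa using ha))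

theorem GenUpTo.nonempty_linearEquiv {f : R} {ξ : Q} (h : GenUpTo f ξ) :
    Nonempty (LocalizedModule.Away f Q ≃ₗ[Localization.Away f] Localization.Away f) := by
  let e : Localization.Away f →ₗ[Localization.Away f] LocalizedModule.Away f Q :=
    LinearMap.toSpanSingleton _ _ (LocalizedModule.mkLinearMap (Submonoid.powers f) Q ξ)
  refine ⟨(LinearEquiv.ofBijective e ⟨?_, ?_⟩).symm⟩
  · rw [injective_iff_map_eq_zero]
    intro w hw
    obtain ⟨⟨a, _, k, rfl⟩, hc⟩ := IsLocalization.surj (Submonoid.powers f) w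
    change w * algebraMap R _ (f ^ k) = algebraMap R _ a at hc
    have h0 : LocalizedModule.mkLinearMap (Submonoid.powers f) Q (a • ξ) = 0 := by
      rw [map_smul, ← algebraMap_smul (Localization.Away f) a, ← hc, mul_comm, mul_smul,
        show w • LocalizedModule.mkLinearMap (Submonoid.powers f) Q ξ = 0 from hw, smul_zero]
    obtain ⟨⟨_, j, rfl⟩, hj⟩ := (IsLocalizedModule.eq_zero_iff (Submonoid.powers f)
      (LocalizedModule.mkLinearMap (Submonoid.powers f) Q)).1 h0
    obtain ⟨l, hl⟩ := h.tors (f ^ j * a) (by rw [mul_smul]; exact hj)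
    have h1 := congrArg (algebraMap R (Localization.Away f)) hl
    have hu : ∀ m : ℕ, IsUnit (algebraMap R (Localization.Away f) (f ^ m)) := fun m =>
      IsLocalization.map_units (M := Submonoid.powers f) _ ⟨f ^ m, m, rfl⟩
    rw [map_mul, map_mul, map_zero, (hu l).mul_right_eq_zero, (hu j).mul_right_eq_zero, ← hc,
      (hu k).mul_left_eq_zero] at h1
    exact h1
  · intro v
    obtain ⟨⟨z, _, m, rfl⟩, hz⟩ :=
      IsLocalizedModule.surj (Submonoid.powers f) (LocalizedModule.mkLinearMap (Submonoid.powers f) Q) v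
    obtain ⟨k, a, ha⟩ := h.gen z
    obtain ⟨w, hw⟩ : IsUnit (algebraMap R (Localization.Away f) (f ^ (k + m))) :=
      IsLocalization.map_units (M := Submonoid.powers f) _ ⟨f ^ (k + m), k + m, rfl⟩
    refine ⟨(↑w⁻¹ : Localization.Away f) * algebraMap R _ a, ?_⟩
    show ((↑w⁻¹ : Localization.Away f) * algebraMap R _ a) • _ = v
    rw [mul_smul, algebraMap_smul, ← map_smul, ← ha, map_smul, ← algebraMap_smul (Localization.Away f) (f ^ k),
      show LocalizedModule.mkLinearMap (Submonoid.powers f) Q z = algebraMap R (Localization.Away f) (f ^ m) • v by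
        rw [algebraMap_smul]; exact hz.symm,
      smul_smul, smul_smul, mul_assoc, ← map_mul, ← pow_add, ← hw, Units.inv_mul, one_smul]

theorem genUpTo_of_linearEquiv {f : R}
    (e : LocalizedModule.Away f Q ≃ₗ[Localization.Away f] Localization.Away f) :
    ∃ ξ : Q, GenUpTo f ξ := by
  let mk := LocalizedModule.mkLinearMap (Submonoid.powers f) Q
  obtain ⟨⟨ξ, _, j, rfl⟩, hx⟩ := IsLocalizedModule.surj (Submonoid.powers f) mk (e.symm 1)
  have hu : ∀ m : ℕ, IsUnit (algebraMap R (Localization.Away f) (f ^ m)) := fun m =>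
    IsLocalization.map_units (M := Submonoid.powers f) _ ⟨f ^ m, m, rfl⟩
  have heξ : e (mk ξ) = algebraMap R _ (f ^ j) := by
    rw [← show f ^ j • e.symm 1 = mk ξ from hx, ← algebraMap_smul (Localization.Away f) (f ^ j) (e.symm 1),
      map_smul, LinearEquiv.apply_symm_apply, smul_eq_mul, mul_one]
  refine ⟨ξ, ⟨fun z => ?_, fun a ha => ?_⟩⟩
  · obtain ⟨⟨b, _, m, rfl⟩, hb⟩ := IsLocalization.surj (Submonoid.powers f) (e (mk z))
    change e (mk z) * algebraMap R _ (f ^ m) = algebraMap R _ b at hb
    have h0 : mk (f ^ (m + j) • z - b • ξ) = 0 := e.injective (by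
      rw [mk.map_sub, mk.map_smul, mk.map_smul, ← algebraMap_smul (Localization.Away f) b (mk ξ),
        ← algebraMap_smul (Localization.Away f) (f ^ (m + j)) (mk z), map_sub, map_smul, map_smul, heξ,
        smul_eq_mul, smul_eq_mul, ← hb, pow_add, map_mul, map_zero]
      ring)
    obtain ⟨⟨_, i, rfl⟩, hi⟩ := (IsLocalizedModule.eq_zero_iff (Submonoid.powers f) mk).1 h0
    replace hi : f ^ i • (f ^ (m + j) • z - b • ξ) = (0 : Q) := hi
    rw [smul_sub, sub_eq_zero, smul_smul, smul_smul, ← pow_add] at hi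
    exact ⟨i + (m + j), f ^ i * b, hi⟩
  · have h1 : algebraMap R (Localization.Away f) (a * f ^ j) = 0 := by
      rw [map_mul, ← heξ, ← smul_eq_mul, ← map_smul, algebraMap_smul, ← map_smul, ha, map_zero, map_zero]
    obtain ⟨⟨_, i, rfl⟩, hi⟩ := (IsLocalization.map_eq_zero_iff (Submonoid.powers f) _ _).1 h1
    exact ⟨i + j, by rw [pow_add, mul_assoc, mul_comm (f ^ j)]; exact hi⟩

theorem exists_genUpTo_of_rank_one [Module.Finite R Q] [Module.Projective R Q]
    (hrk : ∀ p : PrimeSpectrum R, Module.finrank (Localization.AtPrime p.asIdeal)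
      (LocalizedModule p.asIdeal.primeCompl Q) = 1) (p : PrimeSpectrum R) :
    ∃ (f : R) (ξ : Q), f ∉ p.asIdeal ∧ GenUpTo f ξ := by
  haveI : Module.FinitePresentation R Q := Module.finitePresentation_of_projective R Q
  haveI : Module.Free (Localization.AtPrime p.asIdeal) (LocalizedModule p.asIdeal.primeCompl Q) :=
    Module.free_of_flat_of_isLocalRing
  obtain ⟨f, hf, hfree, hfr⟩ := Module.FinitePresentation.exists_free_localizedModule_powers
    p.asIdeal.primeCompl (LocalizedModule.mkLinearMap p.asIdeal.primeCompl Q) (Localization.AtPrime p.asIdeal)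
  rw [hrk p] at hfr
  haveI : Nontrivial (Localization.Away f) :=
    (IsLocalization.map (M := Submonoid.powers f) (T := p.asIdeal.primeCompl) (Localization.AtPrime p.asIdeal)
      (RingHom.id R) (Submonoid.powers_le.mpr hf) : Localization.Away f →+* _).domain_nontrivial
  haveI : Module.Free (Localization.Away f) (LocalizedModule.Away f Q) := hfree
  haveI : Module.Finite (Localization.Away f) (LocalizedModule.Away f Q) :=
    Module.Finite.of_isLocalizedModule (Submonoid.powers f) (LocalizedModule.mkLinearMap (Submonoid.powers f) Q)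
  let e := (Module.finBasisOfFinrankEq (Localization.Away f) (LocalizedModule.Away f Q) hfr).equivFun.trans
    (LinearEquiv.funUnique (Fin 1) (Localization.Away f) (Localization.Away f))
  obtain ⟨ξ, hξ⟩ := genUpTo_of_linearEquiv e
  exact ⟨f, ξ, hf, hξ⟩

/-- An element generating up to powers of `g` gives a basis over `D g`. -/
theorem GenUpTo.gen_eltSec {R : CommRingCat.{u}} (M : ModuleCat.{u} R) (g : R) (ξ : M) (hξ : GenUpTo g ξ) :
    Gen (D g) (eltSec M (D g) ξ) := by
  refine gen_of_basicOpen fun h hh => ?_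
  rw [eltSec_res M hh ξ]
  haveI : IsLocalizedModule.Away h (tilde.toOpen M (D h)).hom :=
    inferInstanceAs (IsLocalizedModule.Away h (tilde.toOpen M (PrimeSpectrum.basicOpen h)).hom)
  have hgu : IsUnit (algebraMap R Γ(Spec R, D h) g) := isUnit_algebraMap_of_le hh
  have hpow : ∀ m : Submonoid.powers h, IsUnit (algebraMap R Γ(Spec R, D h) m.1) := fun m =>
    IsLocalization.map_units (M := Submonoid.powers h) Γ(Spec R, D h) m
  constructor
  · intro a b hab
    obtain ⟨⟨c, m⟩, hc⟩ := IsLocalization.surj (Submonoid.powers h) (a - b : Γ(Spec R, D h))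
    have h0 : eltSec M (D h) (c • ξ) = 0 := by
      rw [eltSec_smul, ← show _ = algebraMap R Γ(Spec R, D h) c from hc, mul_comm, mul_smul, sub_smul]
      rw [show a • eltSec M (D h) ξ = b • eltSec M (D h) ξ from hab, sub_self, smul_zero]
    obtain ⟨n, hn⟩ := (IsLocalizedModule.eq_zero_iff (Submonoid.powers h) (tilde.toOpen M (D h)).hom).1 h0
    rw [Submonoid.smul_def, ← mul_smul] at hn
    obtain ⟨k, hk⟩ := hξ.tors _ hn
    have h1 := congrArg (algebraMap R Γ(Spec R, D h)) hk
    rw [map_mul, map_pow, map_mul, map_zero, (hgu.pow k).mul_right_eq_zero, (hpow n).mul_right_eq_zero,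
      ← show _ = algebraMap R Γ(Spec R, D h) c from hc, (hpow m).mul_left_eq_zero] at h1
    exact sub_eq_zero.1 h1
  · intro v
    obtain ⟨⟨z, m⟩, hz⟩ := IsLocalizedModule.surj (Submonoid.powers h) (tilde.toOpen M (D h)).hom v
    obtain ⟨k, a, ha⟩ := hξ.gen z
    obtain ⟨u, hu⟩ := (hpow m).mul (hgu.pow k)
    refine ⟨(↑u⁻¹ : Γ(Spec R, D h)) * algebraMap R _ a, ?_⟩
    show ((↑u⁻¹ : Γ(Spec R, D h)) * algebraMap R _ a) • eltSec M (D h) ξ = v
    rw [mul_smul, ← eltSec_smul, ← ha, eltSec_smul, map_pow,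
      show eltSec M (D h) z = algebraMap R Γ(Spec R, D h) m.1 • v by
        rw [algebraMap_smul]; exact hz.symm,
      ← mul_smul, ← mul_smul, mul_assoc, mul_comm (algebraMap R Γ(Spec R, D h) g ^ k), ← hu, Units.inv_mul,
      one_smul]

end Groth.Agent.ProjUPLib
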