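import Groth.Agent.ProjUPLib.Free
import Groth.Agent.ProjUPLib.AffineRel
import Groth.Agent.ProjUPLib.LocFree
import Groth.Agent.TildePerf.Mod
import Groth.Agent.S12080

/-! Sections of projective space over an affine base and their modules of relations. -/

set_option autoImplicit false
set_option backward.isDefEq.respectTransparency false
set_option linter.style.haveILetI false

universe u

open CategoryTheory CategoryTheory.Limits AlgebraicGeometry TopologicalSpace Opposite
open Groth.Agent.PullbackMod Groth.Agent.DCohLib Groth.Agent.ParaFLib Groth.Agent.AmpleLib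

noncomputable section

namespace Groth.Agent.ProjUPLib

theorem generatedBy_of_mem_gl {X : Scheme.{u}} {L : X.Modules} (hL : PicF.IsInvertible L) {κ : Type*}
    {s : κ → ProjUP.Γm L} (h : ∀ x : X, ∃ i, x ∈ gl (s i)) : ProjUP.GeneratedBy L s := fun x => by
  obtain ⟨i, hi⟩ := h x
  refine eq_top_iff.2 fun z _ => ?_
  obtain ⟨r, rfl⟩ := ((mem_gl_iff hL).1 hi).2 z
  exact Submodule.smul_mem _ r (Submodule.subset_span ⟨i, rfl⟩)

variable {n : ℕ} {R : Type u} [CommRing R]

/-- `R` as functions on `Spec R`. -/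
abbrev cst (R : Type u) [CommRing R] : R →+* Γ(Spec (CommRingCat.of R), ⊤) :=
  ProjUP.toGlobal (𝟙 (Spec (CommRingCat.of R)))

theorem cst_bijective : Function.Bijective (cst R) := by
  have : IsIso ((Scheme.ΓSpecIso (CommRingCat.of R)).inv ≫ Scheme.Hom.appTop (𝟙 (Spec (CommRingCat.of R)))) := inferInstance
  exact ConcreteCategory.bijective_of_isIso
    ((Scheme.ΓSpecIso (CommRingCat.of R)).inv ≫ Scheme.Hom.appTop (𝟙 (Spec (CommRingCat.of R))))

theorem inv_eq_algebraMap (R' : CommRingCat.{u}) (a : R') :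
    (Scheme.ΓSpecIso R').inv a = algebraMap R' Γ(Spec R', (⊤ : (Spec R').Opens)) a := by
  show _ = (Spec R').presheaf.map (⊤ : (Spec R').Opens).leTop.op ((Scheme.ΓSpecIso R').inv a)
  rw [Subsingleton.elim ((⊤ : (Spec R').Opens).leTop.op) (𝟙 _), CategoryTheory.Functor.map_id]
  rfl

theorem cst_apply (a : R) : cst R a = (Scheme.ΓSpecIso (CommRingCat.of R)).inv a := rfl

variable (s : Spec (CommRingCat.of R) ⟶ CohB1.ProjSpace n R)

/-- The inverse images of the coordinates. -/
abbrev coordPull (i : Fin (n + 1)) : ProjUP.Γm ((Scheme.Modules.pullback s).obj (Twist.twistProjSpace n R 1)) :=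
  ProjUP.pullSec s (Twist.twistProjSpace n R 1) (ProjUP.coord n R i)

theorem mem_secKernel_iff (c : Fin (n + 1) → R) :
    c ∈ ProjUP.secKernel n R s ↔ combine (𝟙 _) (coordPull s) c = 0 := Iff.rfl

theorem isInvertible_pullTwist :
    PicF.IsInvertible ((Scheme.Modules.pullback s).obj (Twist.twistProjSpace n R 1)) :=
  isInvertible_pullback s (isInvertible_twist_one (linForm_mem n R) (adjoin_range (isSymmetricAlgebra_linForm n R)))

theorem generatedBy_coordPull : ProjUP.GeneratedBy _ (coordPull s) := by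
  have hadj : Algebra.adjoin R (Set.range fun i : Fin (n + 1) => (MvPolynomial.X i : MvPolynomial (Fin (n + 1)) R)) = ⊤ :=
    MvPolynomial.adjoin_range_X
  refine generatedBy_of_mem_gl (isInvertible_pullTwist s) fun x => ?_
  have hι : ∀ i : ULift.{u} (Fin (n + 1)), (MvPolynomial.X i.down : MvPolynomial (Fin (n + 1)) R) ∈
      CohB1.polyGrading n R 1 := fun i => MvPolynomial.isHomogeneous_X R i.down
  have hadj' : Algebra.adjoin R (Set.range fun i : ULift.{u} (Fin (n + 1)) =>
      (MvPolynomial.X i.down : MvPolynomial (Fin (n + 1)) R)) = ⊤ := by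
    rw [eq_top_iff, ← hadj]
    exact Algebra.adjoin_mono fun _ ⟨i, hi⟩ => ⟨⟨i⟩, hi⟩
  obtain ⟨⟨i⟩, hi⟩ := Opens.mem_iSup.1 ((iSup_basicOpen_ι hι hadj').ge (Opens.mem_top (s x)))
  refine ⟨i, ?_⟩
  have := (gl_pForm hι s hadj' ⟨MvPolynomial.X i, MvPolynomial.isHomogeneous_X R i⟩).ge
    (show x ∈ s ⁻¹ᵁ Proj.basicOpen (CohB1.polyGrading n R) (MvPolynomial.X i) from hi)
  exact this

theorem combine_sub_single {X : Scheme.{u}} (q : X ⟶ Spec (CommRingCat.of R)) {L : X.Modules}
    (u : Fin (n + 1) → ProjUP.Γm L) (i j : Fin (n + 1)) (a b : R) :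
    combine q u (Pi.single i a - Pi.single j b) = ProjUP.toGlobal q a • u i - ProjUP.toGlobal q b • u j := by
  have h : ∀ (k : Fin (n + 1)) (c : R), combine q u (Pi.single k c) = ProjUP.toGlobal q c • u k := fun k c => by
    rw [show (Pi.single k c : Fin (n + 1) → R) = c • Pi.single k 1 by rw [← Pi.single_smul', smul_eq_mul, mul_one],
      combine_smul, combine_single]
  rw [map_sub, h, h]

theorem section_ext_of_secKernel_eq (s₁ s₂ : Spec (CommRingCat.of R) ⟶ CohB1.ProjSpace n R)
    (h₁ : s₁ ≫ CohB1.ProjSpace.toSpec n R = 𝟙 _) (h₂ : s₂ ≫ CohB1.ProjSpace.toSpec n R = 𝟙 _)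
    (h : ProjUP.secKernel n R s₁ = ProjUP.secKernel n R s₂) : s₁ = s₂ := by
  have hg : ∀ s : Spec (CommRingCat.of R) ⟶ CohB1.ProjSpace n R,
      ProjUP.GeneratedBy _ (fun i : ULift.{u} (Fin (n + 1)) => coordPull s i.down) := fun s x => by
    rw [eq_top_iff, ← generatedBy_coordPull s x]
    exact Submodule.span_mono fun _ ⟨i, hi⟩ => ⟨⟨i⟩, hi⟩
  obtain ⟨e, he⟩ := exists_iso_of_relations (isInvertible_pullTwist s₁) (isInvertible_pullTwist s₂) (hg s₁) (hg s₂)
    fun i j a b hab => by
      obtain ⟨a₀, rfl⟩ := cst_bijective.2 a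
      obtain ⟨b₀, rfl⟩ := cst_bijective.2 b
      have h0 : (Pi.single i.down a₀ - Pi.single j.down b₀ : Fin (n + 1) → R) ∈ ProjUP.secKernel n R s₁ := by
        rw [mem_secKernel_iff, combine_sub_single, sub_eq_zero]
        exact hab
      rw [h, mem_secKernel_iff, combine_sub_single, sub_eq_zero] at h0
      exact h0
  exact hom_ext_projSpace s₁ s₂ (h₁.trans h₂.symm) e fun i => he ⟨i⟩

variable {F : Submodule R (Fin (n + 1) → R)}

theorem invertible_quotient_secKernel (hs : ProjUP.secKernel n R s = F) :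
    Module.Invertible R ((Fin (n + 1) → R) ⧸ F) := by
  subst hs
  let Q := (Fin (n + 1) → R) ⧸ ProjUP.secKernel n R s
  let L := (Scheme.Modules.pullback s).obj (Twist.twistProjSpace n R 1)
  have hL : PicF.IsInvertible L := isInvertible_pullTwist s
  let π := combine (𝟙 (Spec (CommRingCat.of R))) (coordPull s)
  have hsurj : ∀ τ : ProjUP.Γm L, ∃ c, π c = τ := fun τ => by
    obtain ⟨a, ha⟩ := Submodule.mem_span_range_iff_exists_fun _ |>.1
      (mem_span_of_generatedBy hL (generatedBy_coordPull s) τ)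
    choose a₀ ha₀ using fun i => cst_bijective.2 (a i)
    exact ⟨a₀, (Finset.sum_congr rfl fun i _ => congrArg (· • coordPull s i) (ha₀ i)).trans ha⟩
  let S : Set R := {f | ∃ i, (Spec (CommRingCat.of R)).basicOpen (cst R f) ≤ gl (coordPull s i)}
  refine Groth.Agent.S12080.result R Q S ?_ fun f ⟨i, hi⟩ => ?_
  · have hspan : Ideal.span (cst R '' S) = ⊤ := by
      rw [← (isAffineOpen_top (Spec (CommRingCat.of R))).iSup_basicOpen_eq_self_iff]
      refine eq_top_iff.2 fun x _ => ?_
      obtain ⟨i, hi⟩ := exists_mem_gl hL (generatedBy_coordPull s) x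
      obtain ⟨f, hf, hxf⟩ := (isAffineOpen_top (Spec (CommRingCat.of R))).exists_basicOpen_le
        (V := gl (coordPull s i)) ⟨x, hi⟩ (Opens.mem_top x)
      obtain ⟨f₀, rfl⟩ := cst_bijective.2 f
      exact Opens.mem_iSup.2 ⟨⟨cst R f₀, f₀, ⟨i, hf⟩, rfl⟩, hxf⟩
    rw [← Ideal.map_span] at hspan
    have := congrArg (Ideal.comap (cst R)) hspan
    rwa [Ideal.comap_map_of_bijective _ cst_bijective, Ideal.comap_top] at this
  · refine GenUpTo.nonempty_linearEquiv (ξ := (Submodule.Quotient.mk (Pi.single i 1) : Q)) ⟨fun z => ?_, fun a ha => ?_⟩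
    · obtain ⟨c, rfl⟩ := Submodule.Quotient.mk_surjective _ z
      obtain ⟨k, b, hb⟩ := exists_pow_smul_eq hL (coordPull s i) (π c) (cst R f) hi
      obtain ⟨b₀, rfl⟩ := cst_bijective.2 b
      refine ⟨k, b₀, ?_⟩
      rw [← Submodule.Quotient.mk_smul, ← Submodule.Quotient.mk_smul, Submodule.Quotient.eq, mem_secKernel_iff,
        map_sub, combine_smul, combine_smul, combine_single, map_pow, sub_eq_zero]
      exact hb
    · rw [← Submodule.Quotient.mk_smul, Submodule.Quotient.mk_eq_zero, mem_secKernel_iff, combine_smul,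
        combine_single] at ha
      have hres : (Spec (CommRingCat.of R)).presheaf.map
          (homOfLE (le_top : (Spec (CommRingCat.of R)).basicOpen (cst R f) ≤ ⊤)).op (cst R a) = 0 := by
        apply ((gen_gl hL (coordPull s i)).res hi _ le_rfl).1
        show _ • _ = _ • _
        rw [res_self', zero_smul]
        simp only [resT, res_res]
        rw [← L.map_smul, ha, map_zero]
      letI : Algebra Γ(Spec (CommRingCat.of R), ⊤)
          Γ(Spec (CommRingCat.of R), (Spec (CommRingCat.of R)).basicOpen (cst R f)) :=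
        ((Spec (CommRingCat.of R)).presheaf.map
          (homOfLE (le_top : (Spec (CommRingCat.of R)).basicOpen (cst R f) ≤ ⊤)).op).hom.toAlgebra
      haveI : IsLocalization.Away (cst R f)
          Γ(Spec (CommRingCat.of R), (Spec (CommRingCat.of R)).basicOpen (cst R f)) :=
        (isAffineOpen_top (Spec (CommRingCat.of R))).isLocalization_basicOpen (cst R f)
      obtain ⟨⟨_, k, rfl⟩, hk⟩ := (IsLocalization.map_eq_zero_iff (Submonoid.powers (cst R f))
        Γ(Spec (CommRingCat.of R), (Spec (CommRingCat.of R)).basicOpen (cst R f)) _).1 hres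
      change cst R f ^ k * cst R a = 0 at hk
      refine ⟨k, cst_bijective.1 ?_⟩
      rw [map_mul, map_pow, map_zero, hk]

theorem exists_section_of_rank_one [Module.Projective R ((Fin (n + 1) → R) ⧸ F)]
    (hrk : ∀ p : PrimeSpectrum R, Module.finrank (Localization.AtPrime p.asIdeal)
      (LocalizedModule p.asIdeal.primeCompl ((Fin (n + 1) → R) ⧸ F)) = 1) :
    ∃ s : Spec (CommRingCat.of R) ⟶ CohB1.ProjSpace n R,
      s ≫ CohB1.ProjSpace.toSpec n R = 𝟙 _ ∧ ProjUP.secKernel n R s = F := by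
  let M : ModuleCat.{u} (CommRingCat.of R) := ModuleCat.of R ((Fin (n + 1) → R) ⧸ F)
  let q : Fin (n + 1) → M := fun i => Submodule.Quotient.mk (Pi.single i 1)
  let v : Fin (n + 1) → ProjUP.Γm (tilde M) := fun i => eltSec M ⊤ (q i)
  have hsum : ∀ c : Fin (n + 1) → R,
      combine (𝟙 (Spec (CommRingCat.of R))) v c = eltSec M ⊤ (Submodule.Quotient.mk c) := fun c => by
    show ∑ i, cst R (c i) • v i = _
    rw [show (Submodule.Quotient.mk c : M) = ∑ i, c i • q i by
      conv_lhs => rw [pi_eq_sum_univ' c]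
      rw [← Submodule.mkQ_apply, map_sum]
      exact Finset.sum_congr rfl fun i _ => rfl]
    refine Eq.trans (Finset.sum_congr rfl fun i _ => ?_) (map_sum (tilde.toOpen M ⊤).hom _ _).symm
    exact (congrArg (· • v i) (inv_eq_algebraMap (CommRingCat.of R) (c i))).trans (eltSec_smul M ⊤ (c i) (q i)).symm
  have hloc : ∀ x : PrimeSpectrum R, ∃ (f : R) (ξ : M), f ∉ x.asIdeal ∧ Gen (L := tilde M) (D f) (eltSec M (D f) ξ) :=
    fun x => by
      obtain ⟨f, ξ, hf, hξ⟩ := exists_genUpTo_of_rank_one hrk x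
      exact ⟨f, ξ, hf, GenUpTo.gen_eltSec M f ξ hξ⟩
  have hinv : PicF.IsInvertible (tilde M) := isInvertible_of_gen fun x => by
    obtain ⟨f, ξ, hf, hG⟩ := hloc x
    exact ⟨D f, _, hf, hG⟩
  have hgen : ProjUP.GeneratedBy (tilde M) v := fun x => by
    obtain ⟨f, ξ, hf, hG⟩ := hloc x
    obtain ⟨c, rfl⟩ := Submodule.Quotient.mk_surjective _ ξ
    refine eq_top_iff.2 fun z _ => ?_
    obtain ⟨r, rfl⟩ := (hG.bijective_germ x hf).2 z
    refine Submodule.smul_mem _ r ?_
    rw [← eltSec_res M (le_top : D f ≤ ⊤), TopCat.Presheaf.germ_res_apply, ← hsum c]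
    show (tilde M).presheaf.germ ⊤ x trivial (∑ i, cst R (c i) • v i) ∈ _
    rw [map_sum]
    refine Submodule.sum_mem _ fun i _ => ?_
    rw [germ_smul']
    exact Submodule.smul_mem _ _ (Submodule.subset_span ⟨i, rfl⟩)
  obtain ⟨r, hr, τ, hτ⟩ := exists_hom_projSpace (𝟙 _) hinv v hgen
  refine ⟨r, hr, Submodule.ext fun c => ?_⟩
  have e : τ.hom.app ⊤ (combine (𝟙 _) (coordPull r) c) = combine (𝟙 _) v c := by
    show τ.hom.app ⊤ (∑ i, cst R (c i) • coordPull r i) = ∑ i, cst R (c i) • v i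
    rw [map_sum]
    exact Finset.sum_congr rfl fun i _ =>
      (Scheme.Modules.Hom.app_smul τ.hom _ _).trans (congrArg (cst R (c i) • ·) (hτ i))
  have hinj : Function.Injective (τ.hom.app ⊤) :=
    (ConcreteCategory.bijective_of_isIso (τ.hom.app ⊤)).1
  have hinj' : Function.Injective (eltSec M ⊤) := (ConcreteCategory.bijective_of_isIso (tilde.isoTop M).hom).1
  rw [mem_secKernel_iff, ← Submodule.Quotient.mk_eq_zero (p := F), ← hinj.eq_iff, map_zero, e, hsum,
    ← hinj'.eq_iff (b := (0 : M)), show eltSec M ⊤ (0 : M) = 0 from map_zero (tilde.toOpen M ⊤).hom]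

end Groth.Agent.ProjUPLib
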