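import Groth.Agent.ProjUPLib.Coord

/-! A morphism to `Proj` is determined by the inverse image of `O(1)` with the inverse images of the forms. -/

set_option autoImplicit false
set_option backward.isDefEq.respectTransparency false
set_option linter.style.haveILetI false

universe u

open CategoryTheory CategoryTheory.Limits AlgebraicGeometry TopologicalSpace Opposite
open Groth.Agent.PullbackMod Groth.Agent.DCohLib Groth.Agent.ParaFLib Groth.Agent.AmpleLib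

noncomputable section

namespace Groth.Agent.ProjUPLib

variable {A S : Type u} [CommRing A] [CommRing S] [Algebra A S] {𝒮 : ℕ → Submodule A S} [GradedAlgebra 𝒮]
variable {κ : Type u} {ι : κ → S} (hι : ∀ m : κ, ι m ∈ 𝒮 1)

theorem app_resT {X : Scheme.{u}} {L L' : X.Modules} (φ : L ⟶ L') (σ : ProjUP.Γm L) (U : X.Opens) :
    φ.app U (resT σ U) = resT (φ.app ⊤ σ) U := DCohLib.app_natural φ le_top σ

theorem hom_ext_of_iso (hadj : Algebra.adjoin A (Set.range ι) = ⊤) {X : Scheme.{u}} (r r' : X ⟶ Proj 𝒮)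
    (hb : r ≫ toBase 𝒮 = r' ≫ toBase 𝒮)
    (τ : (Scheme.Modules.pullback r).obj (Twist.twist 𝒮 1) ≅ (Scheme.Modules.pullback r').obj (Twist.twist 𝒮 1))
    (hτ : ∀ m, τ.hom.app ⊤ (pForm r ⟨ι m, hι m⟩) = pForm r' ⟨ι m, hι m⟩) : r = r' := by
  let g : κ → 𝒮 1 := fun m => ⟨ι m, hι m⟩
  let U : κ → X.Opens := fun m => r ⁻¹ᵁ Proj.basicOpen 𝒮 (ι m)
  have hU' : ∀ m, U m = r' ⁻¹ᵁ Proj.basicOpen 𝒮 (ι m) := fun m => by
    rw [← gl_pForm hι r' hadj (g m), ← hτ m, gl_iso τ, gl_pForm hι r hadj (g m)]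
  have hcov : ⨆ m, U m = ⊤ := eq_top_iff.2 fun x _ => by
    obtain ⟨m, hm⟩ := Opens.mem_iSup.1 ((iSup_basicOpen_ι hι hadj).ge (Opens.mem_top (r x)))
    exact Opens.mem_iSup.2 ⟨m, hm⟩
  refine (X.openCoverOfIsOpenCover U hcov).hom_ext _ _ fun m => ?_
  show (U m).ι ≫ r = (U m).ι ≫ r'
  have hr : U m ≤ r ⁻¹ᵁ Proj.basicOpen 𝒮 (g m).1 := le_rfl
  have hr' : U m ≤ r' ⁻¹ᵁ Proj.basicOpen 𝒮 (g m).1 := (hU' m).le
  refine hom_ext_chart hι _ (g m) (top_le_ι_preimage r hr) hadj _ (top_le_ι_preimage r' hr')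
    (by rw [Category.assoc, Category.assoc, hb]) fun a => ?_
  rw [ratioAt_ι r (g m) _ hr, ratioAt_ι r' (g m) _ hr']
  congr 1
  apply (gen_pForm hι r' hadj (g m) hr' (U m) le_rfl).1
  show _ • _ = _ • _
  rw [res_self', appLE_ratio_smul r' (g m) _ hr', ← hτ m, ← app_resT]
  refine (Scheme.Modules.Hom.app_smul τ.hom _ _).symm.trans ?_
  rw [appLE_ratio_smul r (g m) _ hr, app_resT, hτ a]

end Groth.Agent.ProjUPLib
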